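import Cfsg.Agent.Lib.Co1Mult.Codes
import Cfsg.Agent.Lib.Co1Mult.Data
import Cfsg.Agent.Lib.Co1Mult.AuxData

/-! Kernel checks for the multiplier of the automorphism group of the lattice. -/

set_option autoImplicit false
set_option maxRecDepth 20000
set_option Elab.async false

namespace Cfsg.Agent.Co1Mult

open Cfsg.Agent.LeechMod Cfsg.Agent.SporPerm
open Cfsg.Agent.LeechOrbit (dec aList treeOK smallOK colsOK)

theorem a_code : dec 24 aCode = aList := by decide +kernel

theorem roots_ok : vecOK wCode 2 = true ∧ vecOK rootP1 1 = true ∧ vecOK rootZ0 0 = true ∧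
    vecOK rootN2 (-2) = true ∧ vecOK rootN1 (-1) = true ∧ vecOK rootN4 (-4) = true ∧
    vecOK yCode0 2 = true ∧ vecOK yCode1 2 = true ∧ vecOK yCode2 2 = true ∧ vecOK yCode3 2 = true := by
  decide +kernel

theorem h_mats : ((matOK hMat0 = true ∧ fixOK hMat0 aList = true) ∧
    (matOK hMat1 = true ∧ fixOK hMat1 aList = true)) ∧ [hMat0, hMat1].all smallOK = true := by
  decide +kernel

theorem h_cols : List.Forall₂ (fun M P => colsOK M P = true) [hMat0, hMat1] hCols := by
  rw [show hCols = [hCols.getD 0 ([], 0), hCols.getD 1 ([], 0)] from rfl]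
  refine List.Forall₂.cons ?_ (List.Forall₂.cons ?_ List.Forall₂.nil) <;> decide +kernel

theorem n_tree : treeOK hCols wCode nTree = true := by decide +kernel

theorem n_len : (Nat.beq nTree.flatten.length 4600 &&
    allBlock (fun i => Nat.blt (i % 64) (nTree.getD (i / 64) []).length) 4600 &&
    PermCert.allBelow (fun b => Nat.ble (nTree.getD b []).length 64 &&
      Nat.ble (64 * b + (nTree.getD b []).length) 4600) nTree.length) = true := by decide +kernel

theorem n_count : countIp nTree wCode 10 = 891 := by decide +kernel

theorem class_P1 : classOK nTree auxP1 rootP1 9 baseP1 = true := by decide +kernel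

theorem class_Z0 : classOK nTree auxZ0 rootZ0 8 baseZ0 = true := by decide +kernel

theorem class_N2 : classOK nTree auxN2 rootN2 6 baseN2 = true := by decide +kernel

theorem class_N1 : classOK nTree auxN1 rootN1 7 baseN1 = true := by decide +kernel

theorem class_N4 : classOK nTree auxN4 rootN4 4 baseN4 = true := by decide +kernel

end Cfsg.Agent.Co1Mult
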