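import Cfsg.Agent.Lib.LeechOrbit.Check
import Cfsg.Agent.Lib.LeechOrbit.Partition

/-!
Inner products of coded vectors, and the Boolean conditions on the neighbourhood of a vertex in the
graph of minimal vectors with inner product 2.
-/

set_option autoImplicit false

namespace Cfsg.Agent.Co1Mult

open Cfsg Cfsg.Agent.Golay Cfsg.Agent.Leech Cfsg.Agent.LeechMod Cfsg.Agent.SporPerm
open Cfsg.Agent.LeechOrbit (dec length_dec dec_bound digSum eCode)

/-- The dot product of the digits of two codes. -/
def dotD : ℕ → ℕ → ℕ → ℕ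
  | 0, _, _ => 0
  | n + 1, c, d => Nat.add (Nat.mul (Nat.mod c 16) (Nat.mod d 16)) (dotD n (Nat.div c 16) (Nat.div d 16))

/-- The inner product of two codes, shifted by 8. -/
def ipV (c d : ℕ) : ℕ :=
  Nat.div (Nat.sub (Nat.add (dotD 24 c d) 2048) (Nat.mul 8 (Nat.add (digSum 24 c) (digSum 24 d)))) 8 - 56

theorem rowDot_dec2 : ∀ n c d, rowDot (dec n c) (dec n d) =
    (dotD n c d : ℤ) - 8 * ((digSum n c : ℤ) + (digSum n d : ℤ)) + 64 * (n : ℤ)
  | 0, _, _ => by simp [dec, rowDot, dotD, digSum]
  | n + 1, c, d => by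
    rw [show dotD (n + 1) c d = c % 16 * (d % 16) + dotD n (c / 16) (d / 16) from rfl,
      show digSum (n + 1) c = c % 16 + digSum n (c / 16) from rfl,
      show digSum (n + 1) d = d % 16 + digSum n (d / 16) from rfl]
    simp only [dec, rowDot, rowDot_dec2 n, Nat.cast_add, Nat.cast_mul, Nat.cast_one]
    ring

theorem dotInt_toVec {a b : List ℤ} (ha : a.length = 24) (hb : b.length = 24) :
    dotInt (toVec a) (toVec b) = rowDot a b := by
  rw [rowDot_eq 24 a b ha hb]
  exact sum_pts fun k => a.getD k 0 * b.getD k 0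

theorem ipV_eq {c d : ℕ} {x y : leechLattice} (hx : toVec (dec 24 c) = (x : GolayPt → ℤ))
    (hy : toVec (dec 24 d) = (y : GolayPt → ℤ)) (hb : -8 ≤ ip x y) : (ipV c d : ℤ) = ip x y + 8 := by
  have h := eight_ip x y
  rw [← hx, ← hy, dotInt_toVec (length_dec _ _) (length_dec _ _), rowDot_dec2] at h
  have e : ipV c d = (dotD 24 c d + 2048 - 8 * (digSum 24 c + digSum 24 d)) / 8 - 56 := rfl
  omega

/-- The layer of an inner product with the root, shifted by 8. -/
def lay (t : ℕ) : ℕ :=
  bif Nat.beq t 12 then 0 else bif Nat.beq t 10 then 1 else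
    bif (Nat.beq t 9 || Nat.beq t 8 || Nat.beq t 6) then 2 else 3

/-- The layer of an inner product with the root. -/
def layer (n : ℤ) : ℕ := lay (n + 8).toNat

theorem lay_ipV {c d : ℕ} {x y : leechLattice} (hx : toVec (dec 24 c) = (x : GolayPt → ℤ))
    (hy : toVec (dec 24 d) = (y : GolayPt → ℤ)) (hb : -8 ≤ ip x y) : lay (ipV c d) = layer (ip x y) := by
  rw [layer, ← ipV_eq hx hy hb, Int.toNat_natCast]

/-- The code at a position of a blocked table. -/
def codeAt (T : List (List ℕ)) (i : ℕ) : ℕ := eCode ((T.getD (i / 64) []).getD (i % 64) 0)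

/-- The entry of a packed table. -/
def auxAt (A : List ℕ) (i : ℕ) : ℕ := PermCert.get 26 (A.getD (i / 64) 0) (i % 64)

/-- Iteration over the first `n` numbers, in blocks. -/
def allBlock (f : ℕ → Bool) (n : ℕ) : Bool :=
  PermCert.allBelow (fun b => PermCert.allBelow (fun j => !Nat.blt (64 * b + j) n || f (64 * b + j)) 64)
    (n / 64 + 1)

theorem allBlock_spec {f : ℕ → Bool} {n : ℕ} (h : allBlock f n = true) {i : ℕ} (hi : i < n) : f i = true := by
  have h1 := PermCert.allBelow_spec _ _ (PermCert.allBelow_spec _ _ h (i / 64) (by omega)) (i % 64)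
    (Nat.mod_lt _ (by norm_num))
  simp only [Nat.div_add_mod, Bool.or_eq_true, Bool.not_eq_true'] at h1
  rcases h1 with h1 | h1
  · rw [← Bool.not_eq_true, Nat.blt_eq] at h1; exact absurd hi h1
  · exact h1

/-- The condition at one neighbour. `k` is the shifted inner product of the root with the vertex. -/
def classAt (T : List (List ℕ)) (A : List ℕ) (r k base i : ℕ) : Bool :=
  Nat.ble (lay k) (lay (ipV r (codeAt T i)) + 1) && Nat.ble (lay (ipV r (codeAt T i))) (lay k + 1) &&
    bif Nat.beq (lay (ipV r (codeAt T i)) + 1) (lay k) then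
      bif Nat.beq (auxAt A i / 8192) 0 then Nat.beq i base
      else Nat.blt (auxAt A i % 8192) 4600 &&
        Nat.beq (lay (ipV r (codeAt T (auxAt A i % 8192))) + 1) (lay k) &&
        Nat.blt (auxAt A (auxAt A i % 8192) / 8192) (auxAt A i / 8192) &&
        Nat.beq (ipV (codeAt T i) (codeAt T (auxAt A i % 8192))) 10
    else bif Nat.beq (lay (ipV r (codeAt T i))) (lay k) then
      Nat.blt (auxAt A i) 4600 && Nat.beq (ipV (codeAt T i) (codeAt T (auxAt A i))) 10 &&
        (Nat.beq (lay (ipV r (codeAt T (auxAt A i))) + 1) (lay k) ||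
          (Nat.beq k 6 && Nat.beq (ipV r (codeAt T i)) 6 && Nat.beq (ipV r (codeAt T (auxAt A i))) 8))
    else true

/-- All conditions for one class. -/
def classOK (T : List (List ℕ)) (A : List ℕ) (r k base : ℕ) : Bool :=
  Nat.blt base 4600 && Nat.beq (lay (ipV r (codeAt T base)) + 1) (lay k) &&
    allBlock (classAt T A r k base) 4600

/-- The number of positions with a given inner product. -/
def countIp (T : List (List ℕ)) (r k : ℕ) : ℕ := T.flatten.countP fun e => Nat.beq (ipV r (eCode e)) k

/-- A code of a minimal vector with given inner product with the standard one. -/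
def vecOK (c : ℕ) (k : ℤ) : Bool :=
  inLB (toVec (dec 24 c)) && decide (Cfsg.dotInt (toVec (dec 24 c)) (toVec (dec 24 c)) = 8 * 4) &&
    decide (Cfsg.dotInt (toVec LeechOrbit.aList) (toVec (dec 24 c)) = 8 * k)

theorem vecOK_spec {c : ℕ} {k : ℤ} (h : vecOK c k = true) :
    ∃ z : leechLattice, toVec (dec 24 c) = (z : GolayPt → ℤ) ∧ ip z z = 4 ∧ ip stdA z = k := by
  simp only [vecOK, Bool.and_eq_true] at h
  exact ⟨⟨_, mem_of_inLB h.1.1⟩, rfl, LeechOrbit.ip_toVec rfl rfl h.1.2,
    LeechOrbit.ip_toVec LeechOrbit.toVec_aList rfl h.2⟩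

/-- One step of a matrix on coordinates. -/
def step (M : List (List ℤ)) (l : List ℤ) : List ℤ := M.map fun r => rowDot r l / 8

/-- The coordinates of an axis. -/
def axisL (i : ℕ) : List ℤ := (List.range 24).map fun j => if Nat.beq i j then 8 else 0

/-- `C` is the commutator of `A` and `B`, on the axes. -/
def commOK (A B C : List (List ℤ)) : Bool :=
  PermCert.allBelow (fun i =>
    eqV (step A (step B (step (transposeRows A) (step (transposeRows B) (axisL i))))) (step C (axisL i))) 24

/-- `C` negates every axis. -/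
def negOK (C : List (List ℤ)) : Bool :=
  PermCert.allBelow (fun i => eqV (step C (axisL i)) ((axisL i).map fun a => -a)) 24

/-- The code of the standard minimal vector. -/
def aCode : ℕ :=
  (List.range 24).foldr (fun i acc => (if i = 0 ∨ i = 23 then 12 else 8) + 16 * acc) 0

end Cfsg.Agent.Co1Mult
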