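import Mathlib.GroupTheory.Abelianization.Defs
import Mathlib.GroupTheory.Subgroup.Center
import Mathlib.GroupTheory.GroupAction.Defs
import Mathlib.Logic.Relation
import Mathlib.Tactic.Abel
import Mathlib.Tactic.Group

/-!
Lifted graphs: a central extension acting on a lift of an edge-transitive and triangle-transitive
graph, and the vanishing of the central kernel on the commutator subgroup when the neighbourhoods
are simply connected layer by layer.
-/

set_option autoImplicit false

namespace Cfsg.Agent.Co1Mult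

theorem correction_add {A : Type*} [AddCommGroup A] {z t : A} (h : t + t = z + z + z) :
    (z - t) + (z - t) + z = 0 ∧ (z - t) + (z - t) + (z - t) + t = 0 := by
  constructor
  · calc (z - t) + (z - t) + z = (z + z + z) - (t + t) := by abel
      _ = 0 := by rw [h, sub_self]
  · calc (z - t) + (z - t) + (z - t) + t = (z + z + z) - (t + t) := by abel
      _ = 0 := by rw [h, sub_self]

theorem correction {A : Type*} [CommGroup A] {z t : A} (h : t * t = z * z * z) :
    z * t⁻¹ * (z * t⁻¹) * z = 1 ∧ z * t⁻¹ * (z * t⁻¹) * (z * t⁻¹) * t = 1 := by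
  have := correction_add (A := Additive A) (z := Additive.ofMul z) (t := Additive.ofMul t)
    (congrArg Additive.ofMul h)
  simp only [sub_eq_add_neg] at this
  exact ⟨congrArg Additive.toMul this.1, congrArg Additive.toMul this.2⟩

/-- The centre as a commutative group. -/
instance (priority := low) centerCommGroup (G : Type*) [Group G] : CommGroup (Subgroup.center G) :=
  { (inferInstance : Group (Subgroup.center G)) with
    mul_comm := fun a b => Subtype.ext (Subgroup.mem_center_iff.1 b.2 a) }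

variable {E : Type*} [Group E] {Ω Ω' : Type*} [MulAction E Ω] [MulAction E Ω']

/-- An equivariant map with a central subgroup acting regularly on each fibre. -/
structure Fibred (Z : Subgroup E) (π : Ω' → Ω) : Prop where
  central : Z ≤ Subgroup.center E
  equivariant : ∀ (g : E) a, π (g • a) = g • π a
  surj : Function.Surjective π
  triv : ∀ z ∈ Z, ∀ x : Ω, z • x = x
  free : ∀ z ∈ Z, ∀ a : Ω', z • a = a → z = 1
  trans : ∀ a b, π a = π b → ∃ z ∈ Z, b = z • a

/-- An invariant lift of the edges. -/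
structure Lifting (π : Ω' → Ω) (adj : Ω → Ω → Prop) (R : Ω' → Ω' → Prop) : Prop where
  proj : ∀ {a b}, R a b → adj (π a) (π b)
  exists_lift : ∀ a y, adj (π a) y → ∃ b, π b = y ∧ R a b
  unique : ∀ {a b b'}, R a b → R a b' → π b = π b' → b = b'
  invariant : ∀ (g : E) {a b}, R a b → R (g • a) (g • b)

variable {Z : Subgroup E} {π : Ω' → Ω} {adj : Ω → Ω → Prop} {R : Ω' → Ω' → Prop}

theorem Fibred.swap (F : Fibred Z π) {z : E} (hz : z ∈ Z) (g : E) (a : Ω') :
    g • z • a = z • g • a := by
  rw [← mul_smul, Subgroup.mem_center_iff.1 (F.central hz) g, mul_smul]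

theorem Fibred.proj_smul (F : Fibred Z π) {z : E} (hz : z ∈ Z) (a : Ω') : π (z • a) = π a := by
  rw [F.equivariant, F.triv z hz]

theorem Fibred.eq_of_smul (F : Fibred Z π) {u v : E} (hu : u ∈ Z) (hv : v ∈ Z) {a : Ω'}
    (h : u • a = v • a) : u = v := by
  have := F.free _ (mul_mem (inv_mem hv) hu) a (by rw [mul_smul, h, inv_smul_smul])
  exact (inv_mul_eq_one.1 this).symm

/-- The group carries any lift of a base configuration to any lift of an equivalent one. -/
theorem Fibred.exists_move (F : Fibred Z π) {a₀ a : Ω'} {g : E} (h : g • π a₀ = π a) :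
    ∃ g' : E, g' • a₀ = a ∧ ∀ x : Ω, g' • x = g • x := by
  obtain ⟨u, hu, he⟩ := F.trans (g • a₀) a (by rw [F.equivariant, h])
  exact ⟨u * g, by rw [mul_smul, ← he], fun x => by rw [mul_smul, F.triv u hu]⟩

/-- **Correction of a lift**: up to the central subgroup the lift is symmetric and closes all
triangles. -/
theorem exists_closed (F : Fibred Z π) (hR : Lifting (E := E) π adj R)
    (hsymm : ∀ x y, adj x y → adj y x)
    (hedge : ∀ x y x' y', adj x y → adj x' y' → ∃ g : E, g • x = x' ∧ g • y = y')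
    (htri : ∀ x y w x' y' w', adj x y → adj y w → adj w x → adj x' y' → adj y' w' → adj w' x' →
      ∃ g : E, g • x = x' ∧ g • y = y' ∧ g • w = w')
    {x₀ y₀ w₀ : Ω} (h1 : adj x₀ y₀) (h2 : adj y₀ w₀) (h3 : adj w₀ x₀) :
    ∃ R', Lifting (E := E) π adj R' ∧ (∀ {a b}, R' a b → R' b a) ∧
      (∀ {a b c}, R' a b → R' b c → adj (π a) (π c) → R' a c) := by
  obtain ⟨a, rfl⟩ := F.surj x₀
  obtain ⟨b, rfl, hab⟩ := hR.exists_lift a y₀ h1
  obtain ⟨c, rfl, hbc⟩ := hR.exists_lift b w₀ h2
  obtain ⟨a₁, ha₁, hba⟩ := hR.exists_lift b (π a) (hsymm _ _ h1)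
  obtain ⟨z, hz, rfl⟩ := F.trans a a₁ ha₁.symm
  obtain ⟨a₂, ha₂, hca⟩ := hR.exists_lift c (π a) h3
  obtain ⟨t, ht, rfl⟩ := F.trans a a₂ ha₂.symm
  have back : ∀ {p q p'}, R p q → R q p' → π p' = π p → p' = z • p := by
    intro p q p' hpq hqp hp
    obtain ⟨g, g1, g2⟩ := hedge _ _ _ _ h1 (hR.proj hpq)
    obtain ⟨g, g1', hg⟩ := F.exists_move g1
    have eq : g • b = q := hR.unique (by rw [← g1']; exact hR.invariant g hab) hpq
      (by rw [F.equivariant, hg, g2])
    have := hR.invariant g hba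
    rw [eq, F.swap hz, g1'] at this
    exact hR.unique hqp this (by rw [hp, F.proj_smul hz])
  have around : ∀ {p q r p'}, R p q → R q r → R r p' → π p' = π p → p' = t • p := by
    intro p q r p' hpq hqr hrp hp
    obtain ⟨g, g1, g2, g3⟩ := htri _ _ _ _ _ _ h1 h2 h3 (hR.proj hpq) (hR.proj hqr)
      (hp ▸ hR.proj hrp)
    obtain ⟨g, g1', hg⟩ := F.exists_move g1
    have eq : g • b = q := hR.unique (by rw [← g1']; exact hR.invariant g hab) hpq
      (by rw [F.equivariant, hg, g2])
    have er : g • c = r := hR.unique (by rw [← eq]; exact hR.invariant g hbc) hqr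
      (by rw [F.equivariant, hg, g3])
    have := hR.invariant g hca
    rw [er, F.swap ht, g1'] at this
    exact hR.unique hrp this (by rw [hp, F.proj_smul ht])
  -- going round a triangle twice
  have hsq : t * t = z * z * z := by
    obtain ⟨c₁, hc₁, hac⟩ := hR.exists_lift (t • a) (π c) (by rw [ha₂]; exact hsymm _ _ h3)
    obtain rfl := back hca hac hc₁
    obtain ⟨b₁, hb₁, hcb⟩ := hR.exists_lift (z • c) (π b) (by rw [hc₁]; exact hsymm _ _ h2)
    obtain ⟨a₃, ha₃, hba₃⟩ := hR.exists_lift b₁ (π a) (by rw [hb₁]; exact hsymm _ _ h1)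
    have e1 := back hbc (p' := z⁻¹ • b₁)
      (by have := hR.invariant z⁻¹ hcb; rwa [inv_smul_smul] at this)
      (by rw [F.proj_smul (inv_mem hz), hb₁])
    rw [inv_smul_eq_iff, ← mul_smul] at e1
    subst e1
    have e2 := back hab (p' := (z * z)⁻¹ • a₃)
      (by have := hR.invariant (z * z)⁻¹ hba₃; rwa [inv_smul_smul] at this)
      (by rw [F.proj_smul (inv_mem (mul_mem hz hz)), ha₃])
    rw [inv_smul_eq_iff, ← mul_smul] at e2
    subst e2
    have e3 := around hac hcb hba₃ (by rw [ha₃, ha₂])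
    rw [← mul_smul] at e3
    exact (F.eq_of_smul (mul_mem (mul_mem hz hz) hz) (mul_mem ht ht) e3).symm
  obtain ⟨hk2, hk3⟩ : z * t⁻¹ * (z * t⁻¹) * z = 1 ∧ z * t⁻¹ * (z * t⁻¹) * (z * t⁻¹) * t = 1 := by
    have := correction (A := Subgroup.center E) (z := ⟨z, F.central hz⟩) (t := ⟨t, F.central ht⟩)
      (Subtype.ext hsq)
    exact ⟨congrArg Subtype.val this.1, congrArg Subtype.val this.2⟩
  set k := z * t⁻¹ with hkdef
  have hk : k ∈ Z := mul_mem hz (inv_mem ht)
  have sym : ∀ {p q}, R p (k⁻¹ • q) → R q (k⁻¹ • p) := by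
    intro p q hpq
    have hadj := hR.proj hpq
    rw [F.proj_smul (inv_mem hk)] at hadj
    obtain ⟨p', hp', hqp⟩ := hR.exists_lift (k⁻¹ • q) (π p)
      (by rw [F.proj_smul (inv_mem hk)]; exact hsymm _ _ hadj)
    obtain rfl := back hpq hqp hp'
    have := hR.invariant k hqp
    rwa [smul_inv_smul, ← mul_smul, show k * z = k⁻¹ from eq_inv_of_mul_eq_one_right (by rw [← mul_assoc, hk2])] at this
  refine ⟨fun p q => R p (k⁻¹ • q), ⟨?_, ?_, ?_, ?_⟩, sym, ?_⟩
  · intro p q h
    have := hR.proj h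
    rwa [F.proj_smul (inv_mem hk)] at this
  · intro p y h
    obtain ⟨q, hq, hpq⟩ := hR.exists_lift p y h
    exact ⟨k • q, by rw [F.proj_smul hk, hq], by rwa [inv_smul_smul]⟩
  · intro p q q' h h' he
    exact smul_left_cancel k⁻¹ (hR.unique h h' (by rw [F.proj_smul (inv_mem hk), F.proj_smul (inv_mem hk), he]))
  · intro g p q h
    show R (g • p) (k⁻¹ • g • q)
    rw [← F.swap (inv_mem hk)]
    exact hR.invariant g h
  · intro p q r hpq hqr hpr
    refine sym ?_
    have h2' := hR.invariant k⁻¹ hqr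
    rw [← mul_smul] at h2'
    obtain ⟨p', hp', hrp⟩ := hR.exists_lift ((k⁻¹ * k⁻¹) • r) (π p)
      (by rw [F.proj_smul (mul_mem (inv_mem hk) (inv_mem hk))]; exact hsymm _ _ hpr)
    obtain rfl := around hpq h2' hrp hp'
    have h4 := hR.invariant (k * k) hrp
    rwa [← mul_smul, show k * k * (k⁻¹ * k⁻¹) = 1 by group, one_smul, ← mul_smul,
      show k * k * t = k⁻¹ from eq_inv_of_mul_eq_one_right (by rw [← mul_assoc, ← mul_assoc, hk3])] at h4

/-- A neighbour one layer down. -/
def Down (adj : Ω → Ω → Prop) (d : Ω → ℕ) (x p : Ω) : Prop := adj x p ∧ d p + 1 = d x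

/-- The layered local conditions. -/
structure Layered (adj : Ω → Ω → Prop) (d : Ω → ℕ) (r : Ω) (N : ℕ) : Prop where
  irrefl : ∀ x, ¬ adj x x
  zero : ∀ x, d x = 0 → x = r
  bound : ∀ x, d x ≤ N
  step : ∀ x y, adj x y → d y ≤ d x + 1
  pred : ∀ x, d x ≠ 0 → ∃ p, Down adj d x p
  conn : ∀ x p q, Down adj d x p → Down adj d x q →
    Relation.ReflTransGen (fun a b => adj a b ∧ Down adj d x b) p q
  apex : ∀ x y, adj x y → d x = d y → (∃ p, Down adj d x p ∧ adj y p) ∨
    ∃ w, adj x w ∧ adj y w ∧ d w = d x ∧ (∃ p, Down adj d x p ∧ adj w p) ∧ ∃ p, Down adj d y p ∧ adj w p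

/-- **A closed lift has a section through all edges.** -/
theorem exists_section (F : Fibred Z π) (hR : Lifting (E := E) π adj R)
    (hsymm : ∀ x y, adj x y → adj y x) (hsR : ∀ {a b}, R a b → R b a)
    (htR : ∀ {a b c}, R a b → R b c → adj (π a) (π c) → R a c)
    {d : Ω → ℕ} {r : Ω} {N : ℕ} (hL : Layered adj d r N) :
    ∃ S : Ω → Ω', (∀ x, π (S x) = x) ∧ ∀ x y, adj x y → R (S x) (S y) := by
  classical
  suffices h : ∀ n, ∃ S : Ω → Ω', (∀ x, π (S x) = x) ∧
      ∀ x y, d x ≤ n → d y ≤ n → adj x y → R (S x) (S y) by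
    obtain ⟨S, h1, h2⟩ := h N
    exact ⟨S, h1, fun x y => h2 x y (hL.bound x) (hL.bound y)⟩
  intro n
  induction n with
  | zero =>
    choose S hS using F.surj
    refine ⟨S, hS, fun x y hx hy hxy => absurd hxy ?_⟩
    rw [hL.zero x (Nat.le_zero.1 hx), hL.zero y (Nat.le_zero.1 hy)]
    exact hL.irrefl r
  | succ n ih =>
    obtain ⟨S, hS, hSR⟩ := ih
    have hlift : ∀ x, d x = n + 1 → ∃ b, π b = x ∧ ∃ p, Down adj d x p ∧ R (S p) b := by
      intro x hx
      obtain ⟨p, hp⟩ := hL.pred x (by omega)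
      obtain ⟨b, hb, hpb⟩ := hR.exists_lift (S p) x (by rw [hS]; exact hsymm _ _ hp.1)
      exact ⟨b, hb, p, hp, hpb⟩
    choose f hf p₀ hp₀ hfR using hlift
    let T : Ω → Ω' := fun x => if h : d x = n + 1 then f x h else S x
    have hT : ∀ x, π (T x) = x := fun x => by
      simp only [T]; split_ifs with h
      · exact hf x h
      · exact hS x
    have hTS : ∀ x, d x ≤ n → T x = S x := fun x hx => dif_neg (by omega)
    have hdown : ∀ x, d x = n + 1 → ∀ p, Down adj d x p → R (S p) (T x) := by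
      intro x hx p hp
      rw [show T x = f x hx from dif_pos hx]
      induction hL.conn x _ p (hp₀ x hx) hp with
      | refl => exact hfR x hx
      | @tail a b hca hab ih =>
        have ha : d a ≤ n ∧ Down adj d x a := by
          rcases Relation.ReflTransGen.cases_tail hca with e | ⟨c, -, -, hc⟩
          · subst e; exact ⟨by have := (hp₀ x hx).2; omega, hp₀ x hx⟩
          · exact ⟨by have := hc.2; omega, hc⟩
        have hRab := hSR a b ha.1 (by have := hab.2.2; omega) hab.1
        exact htR (hsR hRab) (ih ha.2) (by rw [hS, hf]; exact hsymm _ _ hab.2.1)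
    refine ⟨T, hT, fun x y hx hy hxy => ?_⟩
    have hup : ∀ x y, d x = n + 1 → d y ≤ n → adj x y → R (T x) (T y) := fun x y hx hy hxy => by
      have := hL.step y x (hsymm _ _ hxy)
      rw [hTS y hy]
      exact hsR (hdown x hx y ⟨hxy, by omega⟩)
    have hsame : ∀ x y p, d x = n + 1 → d y = n + 1 → adj x y → Down adj d x p → adj y p →
        R (T x) (T y) := fun x y p hx hy hxy hp hyp =>
      htR (hsR (hdown x hx p hp)) (hdown y hy p ⟨hyp, by have := hp.2; omega⟩)
        (by rw [hT, hT]; exact hxy)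
    rcases Nat.lt_or_ge n (d x) with h | h <;> rcases Nat.lt_or_ge n (d y) with h' | h'
    · rcases hL.apex x y hxy (by omega) with ⟨p, hp, hyp⟩ | ⟨w, hxw, hyw, hw, ⟨p, hp, hwp⟩, q, hq, hwq⟩
      · exact hsame x y p (by omega) (by omega) hxy hp hyp
      · exact htR (hsame x w p (by omega) (by omega) hxw hp hwp)
          (hsR (hsame y w q (by omega) (by omega) hyw hq hwq)) (by rw [hT, hT]; exact hxy)
    · exact hup x y (by omega) h' hxy
    · exact hsR (hup y x (by omega) h (hsymm _ _ hxy))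
    · rw [hTS x h, hTS y h']; exact hSR x y h h' hxy

/-- **No commutator in the central subgroup.** -/
theorem eq_one_of_mem_commutator (F : Fibred Z π) (hR : Lifting (E := E) π adj R)
    (hsymm : ∀ x y, adj x y → adj y x) (hsR : ∀ {a b}, R a b → R b a)
    (htR : ∀ {a b c}, R a b → R b c → adj (π a) (π c) → R a c)
    {d : Ω → ℕ} {r : Ω} {N : ℕ} (hL : Layered adj d r N)
    (hinv : ∀ (g : E) x y, adj x y → adj (g • x) (g • y)) {z₀ : E} (hz₀ : z₀ ∈ Z)
    (hc : z₀ ∈ commutator E) : z₀ = 1 := by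
  obtain ⟨S, hS, hSR⟩ := exists_section F hR hsymm hsR htR hL
  have hex : ∀ g : E, ∃ u ∈ Z, ∀ x, g • S x = u • S (g • x) := by
    intro g
    obtain ⟨u, hu, he⟩ := F.trans (S (g • r)) (g • S r) (by rw [hS, F.equivariant, hS])
    refine ⟨u, hu, fun x => ?_⟩
    induction hn : d x using Nat.strong_induction_on generalizing x with
    | _ n ih =>
      rcases eq_or_ne (d x) 0 with h0 | h0
      · rw [hL.zero x h0]; exact he
      · obtain ⟨p, hp⟩ := hL.pred x h0
        have ip' := ih _ (by have := hp.2; omega) p rfl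
        have e1 := hR.invariant g (hSR p x (hsymm _ _ hp.1))
        have e2 := hR.invariant u (hSR (g • p) (g • x) (hinv g _ _ (hsymm _ _ hp.1)))
        rw [← ip'] at e2
        exact hR.unique e1 e2 (by rw [F.equivariant, hS, F.proj_smul hu, hS])
  choose ζ hζ hζS using hex
  have hmul : ∀ g h, ζ (g * h) = ζ g * ζ h := fun g h => by
    have e := hζS (g * h) r
    rw [mul_smul, hζS h, F.swap (hζ h), hζS g, ← mul_smul, ← mul_smul] at e
    rw [← F.eq_of_smul (mul_mem (hζ h) (hζ g)) (hζ (g * h)) e,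
      Subgroup.mem_center_iff.1 (F.central (hζ h)) (ζ g)]
  let φ : E →* Subgroup.center E :=
    MonoidHom.mk' (fun g => ⟨ζ g, F.central (hζ g)⟩) fun g h => Subtype.ext (hmul g h)
  have h1 : ζ z₀ = 1 := congrArg Subtype.val (MonoidHom.mem_ker.1 (Abelianization.commutator_subset_ker φ hc))
  have := hζS z₀ r
  rw [F.triv z₀ hz₀, h1, one_smul] at this
  exact F.free z₀ hz₀ _ this

end Cfsg.Agent.Co1Mult
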