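import Cfsg.Agent.Lib.Leech.SporGroups

/-!
The graph on the minimal vectors with inner product 2, and the transitivity of the automorphism
group on pairs of minimal vectors with given inner product.
-/

set_option autoImplicit false
set_option maxRecDepth 10000

namespace Cfsg.Agent.Co1Mult

open Cfsg Cfsg.Agent.Golay Cfsg.Agent.Leech

theorem ip_neg_right (x y : leechLattice) : ip x (-y) = -ip x y := by
  rw [ip_comm, LatticeMod2.neg_left rootless_ip, ip_comm]

theorem norm_neg (x : leechLattice) : ip (-x) (-x) = ip x x := by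
  rw [LatticeMod2.neg_left rootless_ip, ip_neg_right, neg_neg]

theorem eq_of_ip_four {v w : leechLattice} (hv : ip v v = 4) (hw : ip w w = 4) (h : ip v w = 4) : w = v := by
  have e := LatticeMod2.norm_sub rootless_ip v w
  rw [hv, hw, h] at e
  refine (sub_eq_zero.1 ?_).symm
  by_contra hne
  have := rootless_ip.pos _ hne
  omega

theorem exists_to_std {v : leechLattice} (hv : ip v v = 4) : ∃ g : Co0, g • v = stdA :=
  transitive4 hv ip_stdA

theorem transitive_zero {v w w' : leechLattice} (hv : ip v v = 4) (hw : ip w w = 4) (hw' : ip w' w' = 4)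
    (h : ip v w = 0) (h' : ip v w' = 0) : ∃ g : Co0, g • v = v ∧ g • w = w' := by
  have hab : (none : GolayPt) ≠ some 0 := by simp
  obtain ⟨g, g1, g2⟩ := exists_pair_frame' hv hw h hab
  obtain ⟨k, k1, k2⟩ := exists_pair_frame' hv hw' h' hab
  have e1 : (k⁻¹ * g) • (v + w) = v + w' := by rw [mul_smul, g1, ← k1, inv_smul_smul]
  have e2 : (k⁻¹ * g) • (v - w) = v - w' := by rw [mul_smul, g2, ← k2, inv_smul_smul]
  have e3 : (k⁻¹ * g) • v = v := half_unique (by
    calc (k⁻¹ * g) • v + (k⁻¹ * g) • v = (k⁻¹ * g) • (v + w) + (k⁻¹ * g) • (v - w) := by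
          rw [co0_add, co0_sub]; abel
      _ = v + v := by rw [e1, e2]; abel)
  refine ⟨k⁻¹ * g, e3, ?_⟩
  rw [co0_add, e3] at e1
  exact add_left_cancel e1

theorem transitive_two {v w w' : leechLattice} (hv : ip v v = 4) (hw : ip w w = 4) (hw' : ip w' w' = 4)
    (h : ip v w = 2) (h' : ip v w' = 2) : ∃ g : Co0, g • v = v ∧ g • w = w' := by
  obtain ⟨g, g1, g2⟩ := exists_pair2 hv hw (by rw [ip_comm]; exact h)
  obtain ⟨k, k1, k2⟩ := exists_pair2 hv hw' (by rw [ip_comm]; exact h')
  exact ⟨k⁻¹ * g, by rw [mul_smul, g1, ← k1, inv_smul_smul], by rw [mul_smul, g2, ← k2, inv_smul_smul]⟩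

/-- **Transitivity on pairs of minimal vectors with a given inner product.** -/
theorem transitive_pair {v w v' w' : leechLattice} (hv : ip v v = 4) (hw : ip w w = 4) (hv' : ip v' v' = 4)
    (hw' : ip w' w' = 4) (h : ip v w = ip v' w') : ∃ g : Co0, g • v = v' ∧ g • w = w' := by
  obtain ⟨a, rfl⟩ := transitive4 hv hv'
  suffices hs : ∀ x y : leechLattice, ip x x = 4 → ip y y = 4 → ip v x = ip v y →
      ∃ g : Co0, g • v = v ∧ g • x = y by
    obtain ⟨g, g1, g2⟩ := hs w (a⁻¹ • w') hw ((co0_ip _ _ _).trans hw')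
      (by rw [h, ← co0_ip a v, smul_inv_smul])
    exact ⟨a * g, by rw [mul_smul, g1], by rw [mul_smul, g2, smul_inv_smul]⟩
  intro x y hx hy hxy
  have hm := ip_values hv hx
  simp only [Finset.mem_insert, Finset.mem_singleton] at hm
  rcases hm with e | e | e | e | e | e | e
  · have e1 : -x = v := eq_of_ip_four hv ((norm_neg x).trans hx) (by rw [ip_neg_right, e]; norm_num)
    have e2 : -y = v := eq_of_ip_four hv ((norm_neg y).trans hy) (by rw [ip_neg_right, ← hxy, e]; norm_num)
    exact ⟨1, one_smul _ _, by rw [one_smul]; exact neg_injective (e1.trans e2.symm)⟩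
  · exact transitive_neg2 hv hx hy e (hxy ▸ e)
  · exact transitive_neg1 hv hx hy e (hxy ▸ e)
  · exact transitive_zero hv hx hy e (hxy ▸ e)
  · obtain ⟨g, g1, g2⟩ := transitive_neg1 hv ((norm_neg x).trans hx) ((norm_neg y).trans hy)
      (by rw [ip_neg_right, e]) (by rw [ip_neg_right, ← hxy, e])
    exact ⟨g, g1, by rw [co0_neg] at g2; exact neg_injective g2⟩
  · exact transitive_two hv hx hy e (hxy ▸ e)
  · exact ⟨1, one_smul _ _, by rw [one_smul, eq_of_ip_four hv hx e, eq_of_ip_four hv hy (hxy ▸ e)]⟩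

/-- The minimal vectors. -/
def Vtx : Type := {x : leechLattice // ip x x = 4}

instance : MulAction Co0 Vtx where
  smul g x := ⟨g • x.1, (co0_ip g _ _).trans x.2⟩
  one_smul x := Subtype.ext (one_smul _ x.1)
  mul_smul g h x := Subtype.ext (mul_smul g h x.1)

theorem Vtx.val_smul (g : Co0) (x : Vtx) : (g • x).1 = g • x.1 := rfl

theorem Vtx.ext {x y : Vtx} (h : x.1 = y.1) : x = y := Subtype.ext h

/-- The adjacency. -/
def Adj (x y : Vtx) : Prop := ip x.1 y.1 = 2

theorem Adj.symm {x y : Vtx} (h : Adj x y) : Adj y x := (ip_comm _ _).trans h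

theorem adj_smul_iff (g : Co0) (x y : Vtx) : Adj (g • x) (g • y) ↔ Adj x y := by
  simp only [Adj, Vtx.val_smul, co0_ip]

/-- The standard vertex. -/
def vA : Vtx := ⟨stdA, ip_stdA⟩

end Cfsg.Agent.Co1Mult
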