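import Cfsg.Agent.Lib.Co1Mult.Checks
import Cfsg.Agent.Lib.Co1Mult.Cover
import Cfsg.Agent.Lib.Co1Mult.Graph

/-!
The neighbours of the standard vertex, and the layered local conditions for the distance from it.
-/

set_option autoImplicit false
set_option maxRecDepth 20000

namespace Cfsg.Agent.Co1Mult

open Cfsg Cfsg.Agent.Golay Cfsg.Agent.Leech Cfsg.Agent.LeechMod Cfsg.Agent.SporPerm
open Cfsg.Agent.LeechOrbit (dec eCode length_dec dec_injective)

attribute [local irreducible] nTree hCols wCode auxP1 auxZ0 auxN2 auxN1 auxN4 rootP1 rootZ0 rootN2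
  rootN1 rootN4 hMat0 hMat1

theorem toVec_aCode : toVec (dec 24 aCode) = (stdA : GolayPt → ℤ) := by
  rw [a_code]; exact LeechOrbit.toVec_aList

theorem finite_shell (s : Set leechLattice) (h : ∀ x ∈ s, ip x x = 4) : s.Finite :=
  (Set.finite_of_ncard_ne_zero (s := {x : leechLattice | ip x x = 4})
    (ncard_shell4.trans_ne (by norm_num))).subset h

theorem h_gens : ∀ M ∈ [hMat0, hMat1], ∃ g ∈ MulAction.stabilizer Co0 stdA,
    ∀ v : leechLattice, ((g • v : leechLattice) : GolayPt → ℤ) = mapMat (toMat M) v := by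
  intro M hM
  have key : matOK M = true ∧ fixOK M LeechOrbit.aList = true := by
    simp only [List.mem_cons, List.not_mem_nil, or_false] at hM
    rcases hM with rfl | rfl
    exacts [h_mats.1.1, h_mats.1.2]
  obtain ⟨g, hg, -⟩ := exists_of_matOK key.1
  exact ⟨g, smul_eq_of_fixOK key.1 key.2 hg LeechOrbit.toVec_aList.symm, hg⟩

/-- The neighbours of the standard vertex, as a set. -/
def nbrs : Set leechLattice := {x | ip x x = 4 ∧ ip stdA x = 2}

theorem nbrs_finite : nbrs.Finite := finite_shell _ fun _ h => h.1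

theorem ncard_nbrs : nbrs.ncard = 4600 := by
  show (withIp stdA 2).ncard = 4600
  rw [← (census4 ip_stdA).1, ncard_withIp_neg]

theorem entry_spec {e : ℕ} (he : e ∈ nTree.flatten) :
    ∃ x : Vtx, toVec (dec 24 (eCode e)) = (x.1 : GolayPt → ℤ) ∧ Adj vA x := by
  obtain ⟨w, hw, hw4, hw2⟩ := vecOK_spec roots_ok.1
  obtain ⟨x, ⟨g, rfl⟩, hx⟩ := LeechOrbit.mem_orbit n_tree h_cols h_mats.2 h_gens hw he
  refine ⟨⟨g.1 • w, (co0_ip _ _ _).trans hw4⟩, hx, ?_⟩
  show ip stdA (g.1 • w) = 2
  have h := co0_ip g.1 stdA w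
  rw [show g.1 • stdA = stdA from g.2] at h
  exact h.trans hw2

theorem flatten_length : nTree.flatten.length = 4600 := by
  have h := n_len
  simp only [Bool.and_eq_true, Nat.beq_eq] at h
  exact h.1.1

/-- Every neighbour of the standard vertex is listed. -/
theorem exists_entry {x : Vtx} (hx : Adj vA x) :
    ∃ e ∈ nTree.flatten, toVec (dec 24 (eCode e)) = (x.1 : GolayPt → ℤ) := by
  choose f hf hfa using fun k : Fin nTree.flatten.length => entry_spec (List.getElem_mem k.2)
  have hinc : (nTree.flatten.map eCode).Pairwise (· < ·) := by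
    have h := n_tree
    simp only [LeechOrbit.treeOK, Bool.and_eq_true] at h
    exact LeechOrbit.incr_pairwise _ h.2
  have hnd : (nTree.flatten.map eCode).Nodup := hinc.imp fun h => ne_of_lt h
  have hlt : ∀ k, eCode k < 16 ^ 24 := fun k => (Nat.mod_lt _ (by norm_num)).trans_le (by norm_num)
  let f' : Fin nTree.flatten.length → leechLattice := fun k => (f k).1
  have hinj : Function.Injective f' := fun i j hij => by
    have hk := dec_injective _ _ _ (hlt _) (hlt _)
      (toVec_inj (length_dec _ _) (length_dec _ _) ((hf i).trans ((congrArg Subtype.val hij).trans (hf j).symm)))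
    refine Fin.ext ((hnd.getElem_inj_iff (hi := by rw [List.length_map]; exact i.2)
      (hj := by rw [List.length_map]; exact j.2)).1 ?_)
    rw [List.getElem_map, List.getElem_map]; exact hk
  have hsub : Set.range f' ⊆ nbrs := Set.range_subset_iff.2 fun k => ⟨(f k).2, hfa k⟩
  have heq : Set.range f' = nbrs := Set.eq_of_subset_of_ncard_le hsub
    (by rw [ncard_nbrs, Set.ncard_range_of_injective hinj, Nat.card_fin, flatten_length]) nbrs_finite
  obtain ⟨k, hk⟩ := heq.ge (show x.1 ∈ nbrs from ⟨x.2, hx⟩)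
  exact ⟨_, List.getElem_mem k.2, by rw [hf k, ← hk]⟩

theorem exists_node {i : ℕ} (hi : i < 4600) :
    ∃ x : Vtx, toVec (dec 24 (codeAt nTree i)) = (x.1 : GolayPt → ℤ) ∧ Adj vA x := by
  have h := n_len
  simp only [Bool.and_eq_true, Nat.beq_eq] at h
  have hj := allBlock_spec h.1.2 hi
  rw [Nat.blt_eq] at hj
  have hb : i / 64 < nTree.length := by
    by_contra hc
    rw [List.getD_eq_default _ _ (Nat.le_of_not_lt hc)] at hj
    simp at hj
  refine entry_spec (List.mem_flatten.2 ⟨_, List.getElem_mem hb, ?_⟩)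
  rw [List.getD_eq_getElem _ _ hb] at hj ⊢
  rw [List.getD_eq_getElem _ _ hj]
  exact List.getElem_mem hj

theorem exists_index {x : Vtx} (hx : Adj vA x) :
    ∃ i < 4600, toVec (dec 24 (codeAt nTree i)) = (x.1 : GolayPt → ℤ) := by
  obtain ⟨e, he, hv⟩ := exists_entry hx
  obtain ⟨B, hB, heB⟩ := List.mem_flatten.1 he
  obtain ⟨b, hb, rfl⟩ := List.mem_iff_getElem.1 hB
  obtain ⟨j, hj, rfl⟩ := List.mem_iff_getElem.1 heB
  have h := n_len
  simp only [Bool.and_eq_true, Nat.beq_eq] at h
  have hk := PermCert.allBelow_spec _ _ h.2 b hb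
  simp only [Bool.and_eq_true, Nat.ble_eq, List.getD_eq_getElem _ _ hb] at hk
  have e1 : (64 * b + j) / 64 = b := by omega
  have e2 : (64 * b + j) % 64 = j := by omega
  refine ⟨64 * b + j, by omega, ?_⟩
  rw [codeAt, e1, e2, List.getD_eq_getElem _ _ hb, List.getD_eq_getElem _ _ hj, hv]

/-! ### The layers -/

/-- The distance from the standard vertex, read from the inner product. -/
def dist4 (x : Vtx) : ℕ := layer (ip stdA x.1)

theorem vtx_values (x y : Vtx) : ip x.1 y.1 ∈ ({-4, -2, -1, 0, 1, 2, 4} : Finset ℤ) := ip_values x.2 y.2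

theorem ip_ge (x y : Vtx) : -8 ≤ ip x.1 y.1 := by
  have := vtx_values x y
  simp only [Finset.mem_insert, Finset.mem_singleton] at this
  omega

theorem dist4_le (x : Vtx) : dist4 x ≤ 3 := by
  have := vtx_values vA x
  simp only [Finset.mem_insert, Finset.mem_singleton] at this
  rcases this with e | e | e | e | e | e | e <;>
    (show layer (ip vA.1 x.1) ≤ 3; rw [e]; decide)

theorem dist4_eq_zero {x : Vtx} (h : dist4 x = 0) : x = vA := by
  have := vtx_values vA x
  simp only [Finset.mem_insert, Finset.mem_singleton] at this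
  rcases this with e | e | e | e | e | e | e <;>
    first
      | exact Vtx.ext (eq_of_ip_four ip_stdA x.2 e)
      | (exfalso; revert h; show layer (ip vA.1 x.1) = 0 → False; rw [e]; decide)

/-- The relation used for connectivity of the lower neighbours. -/
abbrev Link (x : Vtx) : Vtx → Vtx → Prop := fun a b => Adj a b ∧ Down Adj dist4 x b

/-- The local conditions at a vertex. -/
structure LocalOK (x : Vtx) : Prop where
  step : ∀ y, Adj x y → dist4 y ≤ dist4 x + 1
  pred : dist4 x ≠ 0 → ∃ p, Down Adj dist4 x p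
  conn : ∀ p q, Down Adj dist4 x p → Down Adj dist4 x q → Relation.ReflTransGen (Link x) p q
  apex : ∀ y, Adj x y → dist4 x = dist4 y → (∃ p, Down Adj dist4 x p ∧ Adj y p) ∨
    ∃ w, Adj x w ∧ Adj y w ∧ dist4 w = dist4 x ∧ (∃ p, Down Adj dist4 x p ∧ Adj w p) ∧
      ∃ p, Down Adj dist4 y p ∧ Adj w p

theorem local_self : LocalOK vA := by
  have h0 : dist4 vA = 0 := by show layer (ip stdA stdA) = 0; rw [ip_stdA]; decide
  refine ⟨fun y hy => ?_, fun h => absurd h0 h, fun p q hp => ?_, fun y hy he => ?_⟩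
  · show layer (ip vA.1 y.1) ≤ _
    rw [h0, show ip vA.1 y.1 = 2 from hy]; decide
  · have := hp.2; omega
  · rw [dist4_eq_zero (he.symm.trans h0)] at hy
    exact absurd (show ip stdA stdA = 2 from hy) (by rw [ip_stdA]; decide)

theorem local_two {x : Vtx} (hx : Adj vA x) : LocalOK x := by
  have h1 : dist4 x = 1 := by
    show layer (ip vA.1 x.1) = 1
    rw [show ip vA.1 x.1 = 2 from hx]; decide
  have hA : Down Adj dist4 x vA := ⟨hx.symm, by
    rw [h1]; show layer (ip stdA stdA) + 1 = 1; rw [ip_stdA]; decide⟩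
  refine ⟨fun y hy => ?_, fun _ => ⟨vA, hA⟩, fun p q hp hq => ?_, fun y hy he => ?_⟩
  · have := vtx_values vA y
    simp only [Finset.mem_insert, Finset.mem_singleton] at this
    rw [h1]
    rcases this with e | e | e | e | e | e | e
    · exfalso
      have e1 : -y.1 = stdA := eq_of_ip_four ip_stdA ((norm_neg y.1).trans y.2)
        (by rw [ip_neg_right, show ip stdA y.1 = -4 from e]; norm_num)
      have h2 : ip x.1 y.1 = 2 := hy
      rw [← neg_neg y.1, e1, ip_neg_right, ip_comm, show ip stdA x.1 = 2 from hx] at h2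
      norm_num at h2
    · show layer (ip vA.1 y.1) ≤ _; rw [e]; decide
    · exfalso
      have hn : ip (stdA - x.1 + y.1) (stdA - x.1 + y.1) = 2 := by
        rw [LatticeMod2.norm_add rootless_ip, LatticeMod2.norm_sub rootless_ip, ip_stdA, x.2, y.2,
          LatticeMod2.sub_left rootless_ip, show ip stdA y.1 = -1 from e,
          show ip x.1 y.1 = 2 from hy, show ip stdA x.1 = 2 from hx]
        norm_num
      rcases eq_or_ne (stdA - x.1 + y.1) 0 with h0 | h0
      · rw [h0, LatticeMod2.map_zero_left rootless_ip] at hn; norm_num at hn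
      · have := rootless_ip.pos _ h0; omega
    all_goals (show layer (ip vA.1 y.1) ≤ _; rw [e]; decide)
  · have hp0 : p = vA := dist4_eq_zero (by have := hp.2; omega)
    have hq0 : q = vA := dist4_eq_zero (by have := hq.2; omega)
    rw [hp0, hq0]
  · refine Or.inl ⟨vA, hA, ?_⟩
    have := vtx_values vA y
    simp only [Finset.mem_insert, Finset.mem_singleton] at this
    rw [h1] at he
    rcases this with e | e | e | e | e | e | e <;>
      first
        | exact ((ip_comm _ _).trans e : ip y.1 vA.1 = 2)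
        | (exfalso; revert he; show 1 = layer (ip vA.1 y.1) → False; rw [e]; decide)

theorem lay_root {c : ℕ} {r : Vtx} (hr : toVec (dec 24 c) = (r.1 : GolayPt → ℤ)) {d : ℕ} {y : Vtx}
    (hy : toVec (dec 24 d) = (y.1 : GolayPt → ℤ)) : lay (ipV c d) = layer (ip r.1 y.1) :=
  lay_ipV hr hy (ip_ge r y)

theorem adj_of_ipV {c d : ℕ} {x y : Vtx} (hx : toVec (dec 24 c) = (x.1 : GolayPt → ℤ))
    (hy : toVec (dec 24 d) = (y.1 : GolayPt → ℤ)) (h : ipV c d = 10) : Adj x y := by
  have := ipV_eq hx hy (ip_ge x y)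
  rw [h] at this
  show ip x.1 y.1 = 2
  omega

/-- **The conditions for one class, from its table.** -/
theorem local_class {c base : ℕ} {A : List ℕ} {k : ℤ} (hr : vecOK c k = true)
    (hC : classOK nTree A c (k + 8).toNat base = true) {x : Vtx} (hx : ip stdA x.1 = k) : LocalOK x := by
  obtain ⟨r₀, hrv, hr4, hrk⟩ := vecOK_spec hr
  let r : Vtx := ⟨r₀, hr4⟩
  obtain ⟨g, g1, g2⟩ := transitive_pair hr4 ip_stdA ip_stdA x.2
    (by rw [ip_comm, hrk, hx] : ip r₀ stdA = ip stdA x.1)
  have hgA : g • vA = x := Vtx.ext g2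
  have hd : ∀ y : Vtx, dist4 (g • y) = layer (ip r₀ y.1) := fun y => by
    show layer (ip stdA (g • y.1)) = _
    rw [← g1, co0_ip]
  have hdx : dist4 x = lay (k + 8).toNat := by show layer (ip stdA x.1) = _; rw [hx]; rfl
  -- the neighbours of `x`
  have hnode : ∀ y, Adj x y → ∃ i < 4600, ∃ n : Vtx,
      toVec (dec 24 (codeAt nTree i)) = (n.1 : GolayPt → ℤ) ∧ Adj vA n ∧ g • n = y := by
    intro y hy
    have hn : Adj vA (g⁻¹ • y) := by
      rw [← adj_smul_iff g, hgA, smul_inv_smul]; exact hy
    obtain ⟨i, hi, hv⟩ := exists_index hn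
    exact ⟨i, hi, g⁻¹ • y, hv, hn, smul_inv_smul g y⟩
  have hdn : ∀ i (n : Vtx), toVec (dec 24 (codeAt nTree i)) = (n.1 : GolayPt → ℤ) →
      lay (ipV c (codeAt nTree i)) = dist4 (g • n) := fun i n hv =>
    (lay_root (r := r) hrv hv).trans (hd n).symm
  simp only [classOK, Bool.and_eq_true, Nat.blt_eq, Nat.beq_eq] at hC
  obtain ⟨⟨hb, hbd⟩, hall⟩ := hC
  obtain ⟨nb, hnb, hnbA⟩ := exists_node hb
  have hbase : Down Adj dist4 x (g • nb) :=
    ⟨by rw [← hgA, adj_smul_iff]; exact hnbA, by rw [← hdn _ _ hnb, hbd, hdx]⟩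
  -- paths to and from the base
  have hpath : ∀ m, ∀ i < 4600, auxAt A i / 8192 = m → ∀ n : Vtx,
      toVec (dec 24 (codeAt nTree i)) = (n.1 : GolayPt → ℤ) → Down Adj dist4 x (g • n) →
      Relation.ReflTransGen (Link x) (g • n) (g • nb) ∧ Relation.ReflTransGen (Link x) (g • nb) (g • n) := by
    intro m
    induction m using Nat.strong_induction_on with
    | _ m ih =>
      intro i hi hm n hn hdown
      have hk := allBlock_spec hall hi
      simp only [classAt, Bool.and_eq_true] at hk
      have hlay : lay (ipV c (codeAt nTree i)) + 1 = lay (k + 8).toNat := by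
        rw [hdn i n hn, hdown.2, hdx]
      have hk2 := hk.2
      rw [show Nat.beq (lay (ipV c (codeAt nTree i)) + 1) (lay (k + 8).toNat) = true from
        (by rw [Nat.beq_eq]; exact hlay), cond_true] at hk2
      cases hz : Nat.beq (auxAt A i / 8192) 0
      · rw [hz, cond_false] at hk2
        simp only [Bool.and_eq_true, Nat.blt_eq, Nat.beq_eq] at hk2
        obtain ⟨⟨⟨hq, hql⟩, hlt⟩, hadj⟩ := hk2
        obtain ⟨nq, hnq, hnqA⟩ := exists_node hq
        have hdq : Down Adj dist4 x (g • nq) :=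
          ⟨by rw [← hgA, adj_smul_iff]; exact hnqA, by rw [← hdn _ _ hnq, hql, hdx]⟩
        have hA' : Adj (g • n) (g • nq) := (adj_smul_iff g _ _).2 (adj_of_ipV hn hnq hadj)
        obtain ⟨h1, h2⟩ := ih _ (hm ▸ hlt) _ hq rfl nq hnq hdq
        exact ⟨Relation.ReflTransGen.head ⟨hA', hdq⟩ h1, h2.tail ⟨hA'.symm, hdown⟩⟩
      · rw [hz, cond_true] at hk2
        have hib : i = base := Nat.eq_of_beq_eq_true hk2
        subst hib
        have : n = nb := Vtx.ext (Subtype.ext (hn.symm.trans hnb))
        subst this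
        exact ⟨Relation.ReflTransGen.refl, Relation.ReflTransGen.refl⟩
  refine ⟨fun y hy => ?_, fun _ => ⟨_, hbase⟩, fun p q hp hq => ?_, fun y hy he => ?_⟩
  · obtain ⟨i, hi, n, hn, -, rfl⟩ := hnode y hy
    have hk := allBlock_spec hall hi
    simp only [classAt, Bool.and_eq_true, Nat.ble_eq] at hk
    rw [← hdn i n hn, hdx]
    exact hk.1.2
  · obtain ⟨i, hi, n, hn, -, rfl⟩ := hnode p hp.1
    obtain ⟨i', hi', n', hn', -, rfl⟩ := hnode q hq.1
    exact (hpath _ i hi rfl n hn hp).1.trans (hpath _ i' hi' rfl n' hn' hq).2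
  · obtain ⟨i, hi, n, hn, -, rfl⟩ := hnode y hy
    have hk := allBlock_spec hall hi
    simp only [classAt, Bool.and_eq_true] at hk
    have hlay : lay (ipV c (codeAt nTree i)) = lay (k + 8).toNat := by rw [hdn i n hn, ← he, hdx]
    have hk2 := hk.2
    rw [show Nat.beq (lay (ipV c (codeAt nTree i)) + 1) (lay (k + 8).toNat) = false from by
        rw [← Bool.not_eq_true, Nat.beq_eq]; omega, cond_false,
      show Nat.beq (lay (ipV c (codeAt nTree i))) (lay (k + 8).toNat) = true from
        (by rw [Nat.beq_eq]; exact hlay), cond_true] at hk2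
    simp only [Bool.and_eq_true, Bool.or_eq_true, Nat.blt_eq, Nat.beq_eq] at hk2
    obtain ⟨⟨hj, hadj⟩, hcase⟩ := hk2
    obtain ⟨w, hw, hwA⟩ := exists_node hj
    have hxw : Adj x (g • w) := by rw [← hgA, adj_smul_iff]; exact hwA
    have hyw : Adj (g • n) (g • w) := (adj_smul_iff g _ _).2 (adj_of_ipV hn hw hadj)
    rcases hcase with hdown | ⟨⟨hk6, hy6⟩, hw8⟩
    · exact Or.inl ⟨g • w, ⟨hxw, by rw [← hdn _ _ hw, hdown, hdx]⟩, hyw⟩
    · -- the root plus either end is a common lower neighbour
      have ek : k = -2 := by omega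
      have ey : ip stdA (g • n).1 = -2 := by
        have := ipV_eq hrv hn (ip_ge r n)
        rw [hy6] at this
        rw [Vtx.val_smul, ← g1, co0_ip]; omega
      have ew : ip stdA (g • w).1 = 0 := by
        have := ipV_eq hrv hw (ip_ge r w)
        rw [hw8] at this
        rw [Vtx.val_smul, ← g1, co0_ip]; omega
      have key : ∀ z : Vtx, ip stdA z.1 = -2 → Adj z (g • w) →
          ∃ p, Down Adj dist4 z p ∧ Adj (g • w) p := by
        intro z hz hzw
        have hp4 : ip (stdA + z.1) (stdA + z.1) = 4 := by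
          rw [LatticeMod2.norm_add rootless_ip, ip_stdA, hz, z.2]; norm_num
        refine ⟨⟨stdA + z.1, hp4⟩, ⟨?_, ?_⟩, ?_⟩
        · show ip z.1 (stdA + z.1) = 2
          rw [ip_comm, rootless_ip.add, hz, z.2]; norm_num
        · show layer (ip stdA (stdA + z.1)) + 1 = layer (ip stdA z.1)
          rw [ip_comm stdA (stdA + z.1), rootless_ip.add, ip_stdA, ip_comm z.1 stdA, hz]; decide
        · show ip (g • w).1 (stdA + z.1) = 2
          rw [ip_comm, rootless_ip.add, ew, show ip z.1 (g • w).1 = 2 from hzw]; norm_num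
      refine Or.inr ⟨g • w, hxw, hyw, ?_, key x (hx.trans ek) hxw, key _ ey hyw⟩
      show layer (ip stdA (g • w).1) = layer (ip stdA x.1)
      rw [ew, hx, ek]; decide

theorem local_all (x : Vtx) : LocalOK x := by
  have := vtx_values vA x
  simp only [Finset.mem_insert, Finset.mem_singleton] at this
  obtain ⟨-, r1, r0, rn2, rn1, rn4, -⟩ := roots_ok
  rcases this with e | e | e | e | e | e | e
  · exact local_class rn4 class_N4 e
  · exact local_class rn2 class_N2 e
  · exact local_class rn1 class_N1 e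
  · exact local_class r0 class_Z0 e
  · exact local_class r1 class_P1 e
  · exact local_two e
  · rw [show x = vA from Vtx.ext (eq_of_ip_four ip_stdA x.2 e)]
    exact local_self

theorem layered : Layered Adj dist4 vA 3 where
  irrefl x h := absurd (x.2.symm.trans (show ip x.1 x.1 = 2 from h)) (by norm_num)
  zero _ h := dist4_eq_zero h
  bound := dist4_le
  step x y h := (local_all x).step y h
  pred x h := (local_all x).pred h
  conn x p q hp hq := (local_all x).conn p q hp hq
  apex x y h he := (local_all x).apex y h he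

end Cfsg.Agent.Co1Mult
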