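import Cfsg.Agent.Lib.Co1Mult.LevelChecks
import Cfsg.Agent.Lib.Co1Mult.Local

/-!
The stabiliser of an edge is perfect and transitive on the common neighbours; consequences for
edges and triangles, and the negation as a commutator.
-/

set_option autoImplicit false
set_option maxRecDepth 20000

namespace Cfsg.Agent.Co1Mult

open Cfsg Cfsg.Agent.Golay Cfsg.Agent.Leech Cfsg.Agent.LeechMod Cfsg.Agent.SporPerm
open Cfsg.Agent.LeechOrbit (dec eCode length_dec smallOK colsOK treeOK)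
open MulAction (stabilizer orbit)
open scoped commutatorElement

attribute [local irreducible] nTree wCode yCode0 yCode1 yCode2 yCode3 lvTree0 lvTree1 lvTree2 lvTree3
  lvCols0 lvCols1 lvCols2 lvCols3 lv0C0 lv0C1 lv1C0 lv1C1 lv2C0 lv2C1 lv3C0 lv3C1 negA negB negC

theorem length_step {M : List (List ℤ)} (hM : shapeOK M = true) (l : List ℤ) : (step M l).length = 24 := by
  simp only [shapeOK, Bool.and_eq_true, Nat.beq_eq] at hM
  rw [step, List.length_map, hM.1]

theorem smul_toVec {M : List (List ℤ)} (hM : shapeOK M = true) {g : Co0}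
    (hg : ∀ v : leechLattice, ((g • v : leechLattice) : GolayPt → ℤ) = mapMat (toMat M) v)
    {v : leechLattice} {l : List ℤ} (hl : l.length = 24) (hv : toVec l = (v : GolayPt → ℤ)) :
    toVec (step M l) = ((g • v : leechLattice) : GolayPt → ℤ) := by
  rw [hg, ← hv, mapMat_toVec hM hl]; rfl

theorem length_axisL (i : ℕ) : (axisL i).length = 24 := by simp [axisL]

theorem toVec_axisL (p : GolayPt) : toVec (axisL (idx p)) = (axis p : GolayPt → ℤ) := by
  funext q
  rw [coe_axis, toVec, axisL, getD_map_range _ (idx_lt q), Pi.single_apply]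
  rcases eq_or_ne q p with rfl | hne
  · simp
  · have : ¬ Nat.beq (idx p) (idx q) = true := by
      rw [Nat.beq_eq]; exact fun e => hne (idx_injective e).symm
    simp [this, hne]

/-- An element agreeing with a matrix on the axes is given by it everywhere. -/
theorem eq_mapMat_of_axes {C : List (List ℤ)} (hC : shapeOK C = true) {g : Co0}
    (h : ∀ p, ((g • axis p : leechLattice) : GolayPt → ℤ) = toVec (step C (axisL (idx p))))
    (v : leechLattice) : ((g • v : leechLattice) : GolayPt → ℤ) = mapMat (toMat C) v := by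
  have e : (8 : ℤ) • v = ∑ p, (v : GolayPt → ℤ) p • axis p := by
    refine Subtype.ext (funext fun k => ?_)
    simp only [AddSubgroup.coe_zsmul, AddSubgroup.val_finset_sum, Pi.smul_apply, Finset.sum_apply,
      coe_axis, Pi.single_apply, smul_eq_mul, mul_ite, mul_zero, Finset.sum_ite_eq, Finset.mem_univ,
      if_true]
    ring
  have hent : ∀ p k, ((g • axis p : leechLattice) : GolayPt → ℤ) k = toMat C k p := fun p k => by
    rw [h, show toVec (step C (axisL (idx p))) = mapMat (toMat C) (toVec (axisL (idx p))) from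
      (mapMat_toVec hC (length_axisL _)).symm, toVec_axisL, coe_axis]
    simp only [mapMat, Matrix.mulVec, dotProduct, Pi.single_apply, mul_ite, mul_zero,
      Finset.sum_ite_eq', Finset.mem_univ, if_true]
    exact Int.mul_ediv_cancel _ (by norm_num)
  funext k
  have e' := congrArg (fun x : leechLattice => (hom0 g x : GolayPt → ℤ) k) e
  simp only [map_sum, map_zsmul, hom0_apply, AddSubgroup.coe_zsmul, AddSubgroup.val_finset_sum,
    Pi.smul_apply, Finset.sum_apply, smul_eq_mul, hent] at e'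
  show _ = (toMat C).mulVec (v : GolayPt → ℤ) k / 8
  rw [show (toMat C).mulVec (v : GolayPt → ℤ) k = ∑ p, (v : GolayPt → ℤ) p * toMat C k p by
    simp [Matrix.mulVec, dotProduct, mul_comm], ← e', Int.mul_ediv_cancel_left _ (by norm_num)]

theorem comm_spec {A B C : List (List ℤ)} (hA : matOK A = true) (hB : matOK B = true)
    (hC : shapeOK C = true) (h : commOK A B C = true) :
    ∃ a b : Co0, (∀ v : leechLattice, ((a • v : leechLattice) : GolayPt → ℤ) = mapMat (toMat A) v) ∧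
      (∀ v : leechLattice, ((b • v : leechLattice) : GolayPt → ℤ) = mapMat (toMat B) v) ∧
      ∀ v : leechLattice, ((⁅a, b⁆ • v : leechLattice) : GolayPt → ℤ) = mapMat (toMat C) v := by
  obtain ⟨a, ha, ha'⟩ := exists_of_matOK hA
  obtain ⟨b, hb, hb'⟩ := exists_of_matOK hB
  refine ⟨a, b, ha, hb, eq_mapMat_of_axes hC fun p => ?_⟩
  simp only [matOK, Bool.and_eq_true] at hA hB
  have hk := eqV_iff.1 (PermCert.allBelow_spec _ _ h (idx p) (idx_lt p))
  rw [← hk]
  have s1 := smul_toVec (shapeOK_transpose B) hb' (length_axisL _) (toVec_axisL p)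
  have s2 := smul_toVec (shapeOK_transpose A) ha' (length_step (shapeOK_transpose B) _) s1
  have s3 := smul_toVec hB.1.1.1 hb (length_step (shapeOK_transpose A) _) s2
  have s4 := smul_toVec hA.1.1.1 ha (length_step hB.1.1.1 _) s3
  rw [s4, commutatorElement_def, mul_smul, mul_smul, mul_smul]

/-- A subgroup contains the elements fixing the standard vector and the listed ones. -/
def Fixes (S : Subgroup Co0) (cs : List ℕ) : Prop :=
  ∀ g : Co0, g • stdA = stdA →
    (∀ c ∈ cs, ∀ v : leechLattice, toVec (dec 24 c) = (v : GolayPt → ℤ) → g • v = v) → g ∈ S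

theorem triple_spec {A B C : List (List ℤ)} {cs : List ℕ} (h : tripleOK A B C cs = true)
    {S : Subgroup Co0} (hS : Fixes S cs) :
    ∃ g ∈ ⁅S, S⁆, g ∈ S ∧ ∀ v : leechLattice, ((g • v : leechLattice) : GolayPt → ℤ) = mapMat (toMat C) v := by
  simp only [tripleOK, fixAll, Bool.and_eq_true, List.all_eq_true] at h
  obtain ⟨⟨⟨⟨⟨hA, hB⟩, hC⟩, hfA⟩, hfB⟩, hc⟩ := h
  obtain ⟨a, b, ha, hb, hab⟩ := comm_spec hA hB hC hc
  have haS : a ∈ S := hS a (smul_eq_of_fixOK hA hfA.1 ha LeechOrbit.toVec_aList.symm)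
    fun c hc v hv => smul_eq_of_fixOK hA (hfA.2 c hc) ha hv.symm
  have hbS : b ∈ S := hS b (smul_eq_of_fixOK hB hfB.1 hb LeechOrbit.toVec_aList.symm)
    fun c hc v hv => smul_eq_of_fixOK hB (hfB.2 c hc) hb hv.symm
  refine ⟨⁅a, b⁆, Subgroup.commutator_mem_commutator haS hbS, ?_, hab⟩
  rw [commutatorElement_def]
  exact mul_mem (mul_mem (mul_mem haS hbS) (inv_mem haS)) (inv_mem hbS)

/-- The vertex of a checked code. -/
noncomputable def vtxOf (c : ℕ) (k : ℤ) (h : vecOK c k = true) : Vtx :=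
  ⟨Classical.choose (vecOK_spec h), (Classical.choose_spec (vecOK_spec h)).2.1⟩

theorem toVec_vtxOf {c : ℕ} {k : ℤ} (h : vecOK c k = true) :
    toVec (dec 24 c) = ((vtxOf c k h).1 : GolayPt → ℤ) := (Classical.choose_spec (vecOK_spec h)).1

theorem ip_vtxOf {c : ℕ} {k : ℤ} (h : vecOK c k = true) : ip stdA (vtxOf c k h).1 = k :=
  (Classical.choose_spec (vecOK_spec h)).2.2

/-- The second vertex of the base edge. -/
noncomputable def wV : Vtx := vtxOf wCode 2 roots_ok.1
/-- The first base point. -/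
noncomputable def y0 : Vtx := vtxOf yCode0 2 roots_ok.2.2.2.2.2.2.1
/-- The second base point. -/
noncomputable def y1 : Vtx := vtxOf yCode1 2 roots_ok.2.2.2.2.2.2.2.1
/-- The third base point. -/
noncomputable def y2 : Vtx := vtxOf yCode2 2 roots_ok.2.2.2.2.2.2.2.2.1
/-- The fourth base point. -/
noncomputable def y3 : Vtx := vtxOf yCode3 2 roots_ok.2.2.2.2.2.2.2.2.2

theorem adj_wV : Adj vA wV := ip_vtxOf roots_ok.1

theorem adj_y0 : Adj vA y0 ∧ Adj wV y0 :=
  ⟨ip_vtxOf _, adj_of_ipV (toVec_vtxOf _) (toVec_vtxOf _) y0_adj⟩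

/-- The stabiliser of the base edge. -/
noncomputable abbrev edgeStab : Subgroup Co0 := stabilizer Co0 stdA ⊓ stabilizer Co0 wV.1

/-- Its derived subgroup. -/
noncomputable abbrev edgeDer : Subgroup Co0 := ⁅edgeStab, edgeStab⁆

instance finite_Co0 : Finite Co0 := Nat.finite_of_card_ne_zero (by rw [card_Co0]; norm_num)

theorem card_eq_orbit_mul (G : Subgroup Co0) (y : leechLattice) :
    Nat.card G = (orbit G y).ncard * Nat.card ↥(G ⊓ stabilizer Co0 y) := by
  rw [← Subgroup.card_mul_index (stabilizer G y), MulAction.index_stabilizer, mul_comm]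
  congr 1
  have e : stabilizer G y = (G ⊓ stabilizer Co0 y).subgroupOf G := by
    ext g
    simp only [Subgroup.mem_subgroupOf, Subgroup.mem_inf, MulAction.mem_stabilizer_iff]
    exact ⟨fun h => ⟨g.2, h⟩, fun h => h.2⟩
  rw [e, Nat.card_congr (Subgroup.subgroupOfEquivOfLe inf_le_left).toEquiv]

theorem shell_finite : {x : leechLattice | ip x x = 4}.Finite := finite_shell _ fun _ h => h

/-- One level of the chain. -/
theorem level_orbit {Ms : List (List (List ℤ))} {Cs : List (List ℕ × ℕ)} {root : ℕ} {T : List (List ℕ)}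
    {n : ℕ} (hT : treeOK Cs root T = true) (hn : T.flatten.length = n)
    (hCs : List.Forall₂ (fun M P => colsOK M P = true) Ms Cs) (hs : Ms.all smallOK = true)
    {G : Subgroup Co0} (hG : ∀ M ∈ Ms, ∃ g ∈ G, ∀ v : leechLattice,
      ((g • v : leechLattice) : GolayPt → ℤ) = mapMat (toMat M) v)
    {y : Vtx} (hy : toVec (dec 24 root) = (y.1 : GolayPt → ℤ)) : n ≤ (orbit G y.1).ncard := by
  refine hn ▸ LeechOrbit.orbit_card hT hCs hs hG hy shell_finite ?_
  rintro x ⟨g, rfl⟩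
  exact (co0_ip g.1 _ _).trans y.2

theorem level_step {A B C : List (List ℤ)} {cs : List ℕ} (h : tripleOK A B C cs = true)
    {S G : Subgroup Co0} (hS : Fixes S cs) (hSe : S ≤ edgeStab) (hG : ∀ g ∈ edgeDer, g ∈ S → g ∈ G) :
    ∃ g ∈ G, ∀ v : leechLattice, ((g • v : leechLattice) : GolayPt → ℤ) = mapMat (toMat C) v := by
  obtain ⟨g, hg, hgS, hv⟩ := triple_spec h hS
  exact ⟨g, hG g (Subgroup.commutator_mono hSe hSe hg) hgS, hv⟩

theorem fixes_edge : Fixes edgeStab [wCode] := fun _ ha hc =>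
  ⟨ha, hc wCode List.mem_cons_self _ (toVec_vtxOf _)⟩

theorem orbit0 : 891 ≤ (orbit edgeDer y0.1).ncard := by
  have h := lv0_ok
  simp only [Bool.and_eq_true, Nat.beq_eq] at h
  obtain ⟨⟨⟨⟨h0, h1⟩, hs⟩, hT⟩, hn⟩ := h
  refine level_orbit hT hn lv_cols0 hs (fun M hM => ?_) (toVec_vtxOf _)
  simp only [List.mem_cons, List.not_mem_nil, or_false] at hM
  rcases hM with rfl | rfl
  exacts [level_step h0 fixes_edge le_rfl fun g hg _ => hg, level_step h1 fixes_edge le_rfl fun g hg _ => hg]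

theorem orbit1 : 512 ≤ (orbit ↥(edgeDer ⊓ stabilizer Co0 y0.1) y1.1).ncard := by
  have h := lv1_ok
  simp only [Bool.and_eq_true, Nat.beq_eq] at h
  obtain ⟨⟨⟨⟨h0, h1⟩, hs⟩, hT⟩, hn⟩ := h
  refine level_orbit hT hn lv_cols1 hs (fun M hM => ?_) (toVec_vtxOf _)
  have hS : Fixes (edgeStab ⊓ stabilizer Co0 y0.1) [wCode, yCode0] := fun g ha hc =>
    ⟨fixes_edge g ha fun c h v hv => hc c (by simp_all) v hv, hc yCode0 (by simp) _ (toVec_vtxOf _)⟩
  have hG : ∀ g ∈ edgeDer, g ∈ edgeStab ⊓ stabilizer Co0 y0.1 → g ∈ edgeDer ⊓ stabilizer Co0 y0.1 :=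
    fun g hg h => ⟨hg, h.2⟩
  simp only [List.mem_cons, List.not_mem_nil, or_false] at hM
  rcases hM with rfl | rfl
  exacts [level_step h0 hS inf_le_left hG, level_step h1 hS inf_le_left hG]

theorem orbit2 : 336 ≤ (orbit ↥(edgeDer ⊓ stabilizer Co0 y0.1 ⊓ stabilizer Co0 y1.1) y2.1).ncard := by
  have h := lv2_ok
  simp only [Bool.and_eq_true, Nat.beq_eq] at h
  obtain ⟨⟨⟨⟨h0, h1⟩, hs⟩, hT⟩, hn⟩ := h
  refine level_orbit hT hn lv_cols2 hs (fun M hM => ?_) (toVec_vtxOf _)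
  have hS : Fixes (edgeStab ⊓ stabilizer Co0 y0.1 ⊓ stabilizer Co0 y1.1) [wCode, yCode0, yCode1] :=
    fun g ha hc => ⟨⟨fixes_edge g ha fun c h v hv => hc c (by simp_all) v hv,
      hc yCode0 (by simp) _ (toVec_vtxOf _)⟩, hc yCode1 (by simp) _ (toVec_vtxOf _)⟩
  have hG : ∀ g ∈ edgeDer, g ∈ edgeStab ⊓ stabilizer Co0 y0.1 ⊓ stabilizer Co0 y1.1 →
      g ∈ edgeDer ⊓ stabilizer Co0 y0.1 ⊓ stabilizer Co0 y1.1 := fun g hg h => ⟨⟨hg, h.1.2⟩, h.2⟩
  simp only [List.mem_cons, List.not_mem_nil, or_false] at hM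
  rcases hM with rfl | rfl
  exacts [level_step h0 hS (inf_le_left.trans inf_le_left) hG,
    level_step h1 hS (inf_le_left.trans inf_le_left) hG]

theorem orbit3 : 60 ≤ (orbit ↥(edgeDer ⊓ stabilizer Co0 y0.1 ⊓ stabilizer Co0 y1.1 ⊓ stabilizer Co0 y2.1)
    y3.1).ncard := by
  have h := lv3_ok
  simp only [Bool.and_eq_true, Nat.beq_eq] at h
  obtain ⟨⟨⟨⟨h0, h1⟩, hs⟩, hT⟩, hn⟩ := h
  refine level_orbit hT hn lv_cols3 hs (fun M hM => ?_) (toVec_vtxOf _)
  have hS : Fixes (edgeStab ⊓ stabilizer Co0 y0.1 ⊓ stabilizer Co0 y1.1 ⊓ stabilizer Co0 y2.1)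
      [wCode, yCode0, yCode1, yCode2] :=
    fun g ha hc => ⟨⟨⟨fixes_edge g ha fun c h v hv => hc c (by simp_all) v hv,
      hc yCode0 (by simp) _ (toVec_vtxOf _)⟩, hc yCode1 (by simp) _ (toVec_vtxOf _)⟩,
      hc yCode2 (by simp) _ (toVec_vtxOf _)⟩
  have hG : ∀ g ∈ edgeDer,
      g ∈ edgeStab ⊓ stabilizer Co0 y0.1 ⊓ stabilizer Co0 y1.1 ⊓ stabilizer Co0 y2.1 →
      g ∈ edgeDer ⊓ stabilizer Co0 y0.1 ⊓ stabilizer Co0 y1.1 ⊓ stabilizer Co0 y2.1 :=
    fun g hg h => ⟨⟨⟨hg, h.1.1.2⟩, h.1.2⟩, h.2⟩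
  simp only [List.mem_cons, List.not_mem_nil, or_false] at hM
  rcases hM with rfl | rfl
  exacts [level_step h0 hS ((inf_le_left.trans inf_le_left).trans inf_le_left) hG,
    level_step h1 hS ((inf_le_left.trans inf_le_left).trans inf_le_left) hG]

theorem card_edgeStab : Nat.card edgeStab * 4600 = 42305421312000 := by
  have h := card_stab_mul (stabilizer Co0 stdA) wV.1 nbrs ⟨wV.2, adj_wV⟩
    (fun g hg x hx => ⟨(co0_ip g x x).trans hx.1, by
      rw [← show g • stdA = stdA from hg, co0_ip]; exact hx.2⟩)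
    (fun x hx => transitive_two ip_stdA wV.2 hx.1 adj_wV hx.2)
  rw [card_stab4 ip_stdA, ncard_nbrs] at h
  rw [h]

/-- **The edge stabiliser is perfect.** -/
theorem edgeDer_eq : edgeDer = edgeStab := by
  have hle : edgeDer ≤ edgeStab := Subgroup.commutator_le.2 fun a ha b hb => by
    rw [commutatorElement_def]
    exact mul_mem (mul_mem (mul_mem ha hb) (inv_mem ha)) (inv_mem hb)
  refine Subgroup.eq_of_le_of_card_ge hle ?_
  have hS := card_edgeStab
  rw [card_eq_orbit_mul edgeDer y0.1, card_eq_orbit_mul (edgeDer ⊓ stabilizer Co0 y0.1) y1.1,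
    card_eq_orbit_mul (edgeDer ⊓ stabilizer Co0 y0.1 ⊓ stabilizer Co0 y1.1) y2.1,
    card_eq_orbit_mul (edgeDer ⊓ stabilizer Co0 y0.1 ⊓ stabilizer Co0 y1.1 ⊓ stabilizer Co0 y2.1) y3.1]
  have h1 : 1 ≤ Nat.card ↥(edgeDer ⊓ stabilizer Co0 y0.1 ⊓ stabilizer Co0 y1.1 ⊓ stabilizer Co0 y2.1 ⊓
      stabilizer Co0 y3.1) := Nat.card_pos
  have h2 := Nat.mul_le_mul orbit0 (Nat.mul_le_mul orbit1 (Nat.mul_le_mul orbit2
    (Nat.mul_le_mul orbit3 h1)))
  refine le_trans ?_ h2
  omega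

theorem ncard_common : {x : leechLattice | ip x x = 4 ∧ ip stdA x = 2 ∧ ip wV.1 x = 2}.ncard ≤ 891 := by
  classical
  set P : ℕ → Bool := fun e => Nat.beq (ipV wCode (eCode e)) 10 with hP
  let L := (nTree.flatten.filter P).map fun e => toVec (dec 24 (eCode e))
  have hlen : L.length = 891 := by
    rw [List.length_map, ← List.countP_eq_length_filter]
    exact n_count
  rw [← Set.ncard_image_of_injective _ (Subtype.val_injective (p := fun x => x ∈ leechLattice))]
  refine le_trans (Set.ncard_le_ncard (t := ↑L.toFinset) ?_ (Finset.finite_toSet _)) ?_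
  · rintro _ ⟨x, ⟨h4, ha, hw⟩, rfl⟩
    obtain ⟨e, he, hv⟩ := exists_entry (x := ⟨x, h4⟩) ha
    refine List.mem_toFinset.2 (List.mem_map.2 ⟨e, List.mem_filter.2 ⟨he, ?_⟩, hv⟩)
    have := ipV_eq (toVec_vtxOf roots_ok.1) hv (ip_ge wV ⟨x, h4⟩)
    rw [show ip (vtxOf wCode 2 roots_ok.1).1 x = 2 from hw] at this
    exact (by rw [Nat.beq_eq]; omega)
  · rw [Set.ncard_coe_finset, ← hlen]
    exact List.toFinset_card_le L

/-- The edge stabiliser is transitive on the common neighbours. -/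
theorem edge_transitive {x : Vtx} (h1 : Adj vA x) (h2 : Adj wV x) :
    ∃ g ∈ edgeStab, g • y0 = x := by
  have hsub : orbit edgeDer y0.1 ⊆ {x : leechLattice | ip x x = 4 ∧ ip stdA x = 2 ∧ ip wV.1 x = 2} := by
    rintro z ⟨g, rfl⟩
    have hg : g.1 ∈ edgeStab := edgeDer_eq.le g.2
    refine ⟨(co0_ip g.1 _ _).trans y0.2, ?_, ?_⟩
    · show ip stdA (g.1 • y0.1) = 2
      have h := co0_ip g.1 stdA y0.1
      rw [show g.1 • stdA = stdA from hg.1] at h
      exact h.trans adj_y0.1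
    · show ip wV.1 (g.1 • y0.1) = 2
      have h := co0_ip g.1 wV.1 y0.1
      rw [show g.1 • wV.1 = wV.1 from hg.2] at h
      exact h.trans adj_y0.2
  have heq := Set.eq_of_subset_of_ncard_le hsub (ncard_common.trans orbit0)
    (finite_shell _ fun z h => h.1)
  obtain ⟨g, hg⟩ := heq.ge (show x.1 ∈ _ from ⟨x.2, h1, h2⟩)
  exact ⟨g.1, edgeDer_eq.le g.2, Vtx.ext hg⟩

theorem edge_orbit {x y x' y' : Vtx} (h : Adj x y) (h' : Adj x' y') :
    ∃ g : Co0, g • x = x' ∧ g • y = y' := by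
  obtain ⟨g, g1, g2⟩ := transitive_pair x.2 y.2 x'.2 y'.2 (Eq.trans h (Eq.symm h'))
  exact ⟨g, Vtx.ext g1, Vtx.ext g2⟩

theorem triangle_orbit {x y z x' y' z' : Vtx} (h1 : Adj x y) (h2 : Adj y z) (h3 : Adj z x)
    (k1 : Adj x' y') (k2 : Adj y' z') (k3 : Adj z' x') :
    ∃ g : Co0, g • x = x' ∧ g • y = y' ∧ g • z = z' := by
  suffices hs : ∀ {a b c : Vtx}, Adj a b → Adj b c → Adj c a →
      ∃ g : Co0, g • vA = a ∧ g • wV = b ∧ g • y0 = c by
    obtain ⟨g, a1, a2, a3⟩ := hs h1 h2 h3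
    obtain ⟨k, b1, b2, b3⟩ := hs k1 k2 k3
    exact ⟨k * g⁻¹, by rw [mul_smul, ← a1, inv_smul_smul, b1], by rw [mul_smul, ← a2, inv_smul_smul, b2],
      by rw [mul_smul, ← a3, inv_smul_smul, b3]⟩
  intro a b c hab hbc hca
  obtain ⟨g, g1, g2⟩ := edge_orbit adj_wV hab
  have e1 : Adj vA (g⁻¹ • c) := by rw [← adj_smul_iff g, g1, smul_inv_smul]; exact hca.symm
  have e2 : Adj wV (g⁻¹ • c) := by rw [← adj_smul_iff g, g2, smul_inv_smul]; exact hbc
  obtain ⟨u, hu, hu'⟩ := edge_transitive e1 e2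
  refine ⟨g * u, ?_, ?_, ?_⟩
  · rw [mul_smul, show u • vA = vA from Vtx.ext hu.1, g1]
  · rw [mul_smul, show u • wV = wV from Vtx.ext hu.2, g2]
  · rw [mul_smul, hu', smul_inv_smul]

theorem negCo0_mem_commutator : negCo0 ∈ commutator Co0 := by
  have h := neg_ok
  simp only [Bool.and_eq_true] at h
  obtain ⟨⟨⟨⟨hA, hB⟩, hC⟩, hc⟩, hn⟩ := h
  obtain ⟨a, b, -, -, hab⟩ := comm_spec hA hB hC hc
  have e : ⁅a, b⁆ = negCo0 := co0_ext fun p => by
    refine Subtype.ext ?_
    rw [hab, negCo0_smul, AddSubgroup.coe_neg, ← toVec_axisL, mapMat_toVec hC (length_axisL _)]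
    have hk := eqV_iff.1 (PermCert.allBelow_spec _ _ hn (idx p) (idx_lt p))
    funext q
    rw [show ((negC.map fun r => rowDot r (axisL (idx p)) / 8) : List ℤ) = step negC (axisL (idx p))
      from rfl, hk]
    simp only [toVec, Pi.neg_apply]
    rw [List.getD_eq_getElem _ _ (by simp [length_axisL, idx_lt q]),
      List.getD_eq_getElem _ _ (by rw [length_axisL]; exact idx_lt q), List.getElem_map]
  rw [← e]
  exact Subgroup.commutator_mem_commutator (Subgroup.mem_top a) (Subgroup.mem_top b)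

end Cfsg.Agent.Co1Mult
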