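import Cfsg.Agent.Lib.Co1Mult.Codes
import Cfsg.Agent.Lib.Co1Mult.Data

/-! Kernel checks for the stabiliser chain inside an edge stabiliser. -/

set_option autoImplicit false
set_option maxRecDepth 20000
set_option Elab.async false

namespace Cfsg.Agent.Co1Mult

open Cfsg.Agent.LeechMod Cfsg.Agent.SporPerm
open Cfsg.Agent.LeechOrbit (dec aList treeOK smallOK colsOK)

/-- A matrix fixes all the listed vectors. -/
def fixAll (M : List (List ℤ)) (cs : List ℕ) : Bool :=
  fixOK M aList && cs.all fun c => fixOK M (dec 24 c)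

/-- The conditions on one commutator. -/
def tripleOK (A B C : List (List ℤ)) (cs : List ℕ) : Bool :=
  matOK A && matOK B && shapeOK C && fixAll A cs && fixAll B cs && commOK A B C

theorem lv0_ok : (tripleOK lv0A0 lv0B0 lv0C0 [wCode] && tripleOK lv0A1 lv0B1 lv0C1 [wCode] &&
    [lv0C0, lv0C1].all smallOK && treeOK lvCols0 yCode0 lvTree0 &&
    Nat.beq lvTree0.flatten.length 891) = true := by decide +kernel

theorem lv1_ok : (tripleOK lv1A0 lv1B0 lv1C0 [wCode, yCode0] &&
    tripleOK lv1A1 lv1B1 lv1C1 [wCode, yCode0] &&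
    [lv1C0, lv1C1].all smallOK && treeOK lvCols1 yCode1 lvTree1 &&
    Nat.beq lvTree1.flatten.length 512) = true := by decide +kernel

theorem lv2_ok : (tripleOK lv2A0 lv2B0 lv2C0 [wCode, yCode0, yCode1] &&
    tripleOK lv2A1 lv2B1 lv2C1 [wCode, yCode0, yCode1] &&
    [lv2C0, lv2C1].all smallOK && treeOK lvCols2 yCode2 lvTree2 &&
    Nat.beq lvTree2.flatten.length 336) = true := by decide +kernel

theorem lv3_ok : (tripleOK lv3A0 lv3B0 lv3C0 [wCode, yCode0, yCode1, yCode2] &&
    tripleOK lv3A1 lv3B1 lv3C1 [wCode, yCode0, yCode1, yCode2] &&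
    [lv3C0, lv3C1].all smallOK && treeOK lvCols3 yCode3 lvTree3 &&
    Nat.beq lvTree3.flatten.length 60) = true := by decide +kernel

theorem y0_adj : ipV wCode yCode0 = 10 := by decide +kernel

theorem lv_cols0 : List.Forall₂ (fun M P => colsOK M P = true) [lv0C0, lv0C1] lvCols0 := by
  rw [show lvCols0 = [lvCols0.getD 0 ([], 0), lvCols0.getD 1 ([], 0)] from rfl]
  refine List.Forall₂.cons ?_ (List.Forall₂.cons ?_ List.Forall₂.nil) <;> decide +kernel

theorem lv_cols1 : List.Forall₂ (fun M P => colsOK M P = true) [lv1C0, lv1C1] lvCols1 := by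
  rw [show lvCols1 = [lvCols1.getD 0 ([], 0), lvCols1.getD 1 ([], 0)] from rfl]
  refine List.Forall₂.cons ?_ (List.Forall₂.cons ?_ List.Forall₂.nil) <;> decide +kernel

theorem lv_cols2 : List.Forall₂ (fun M P => colsOK M P = true) [lv2C0, lv2C1] lvCols2 := by
  rw [show lvCols2 = [lvCols2.getD 0 ([], 0), lvCols2.getD 1 ([], 0)] from rfl]
  refine List.Forall₂.cons ?_ (List.Forall₂.cons ?_ List.Forall₂.nil) <;> decide +kernel

theorem lv_cols3 : List.Forall₂ (fun M P => colsOK M P = true) [lv3C0, lv3C1] lvCols3 := by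
  rw [show lvCols3 = [lvCols3.getD 0 ([], 0), lvCols3.getD 1 ([], 0)] from rfl]
  refine List.Forall₂.cons ?_ (List.Forall₂.cons ?_ List.Forall₂.nil) <;> decide +kernel

theorem neg_ok : (matOK negA && matOK negB && shapeOK negC && commOK negA negB negC && negOK negC) = true := by
  decide +kernel

end Cfsg.Agent.Co1Mult
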