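import Cfsg.Agent.Lib.Co1Mult.Edge
import Cfsg.Agent.Lib.Schur.PerfectQuot
import Cfsg.Agent.Lib.Schur.Congr
import Cfsg.Prelude.Def_KGroupFacts

/-!
The automorphism group of the lattice is perfect with trivial multiplier, given that a minimal
vector stabiliser has trivial multiplier; the multiplier of the simple quotient has order 2.
-/

set_option autoImplicit false
set_option maxRecDepth 20000

namespace Cfsg.Agent.Co1Mult

open Cfsg Cfsg.Agent.Golay Cfsg.Agent.Leech
open MulAction (stabilizer)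
open scoped commutatorElement

/-- The vector stabiliser is perfect. -/
theorem stabA_perfect : ⁅stabilizer Co0 stdA, stabilizer Co0 stdA⁆ = stabilizer Co0 stdA := by
  set H := stabilizer Co0 stdA
  haveI := isSimpleGroup_stab4 ip_stdA
  have hc : commutator H = ⊤ := by
    rcases (inferInstance : (commutator H).Normal).eq_bot_or_eq_top with h | h
    · exfalso
      letI : CommGroup H :=
        { (inferInstance : Group H) with
          mul_comm := fun a b => by
            rw [← commutatorElement_eq_one_iff_mul_comm, ← Subgroup.mem_bot, ← h]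
            exact Subgroup.commutator_mem_commutator (Subgroup.mem_top a) (Subgroup.mem_top b) }
      have hp := IsSimpleGroup.prime_card (α := H)
      rw [card_stab4 ip_stdA] at hp
      exact absurd hp (by
        rw [show (42305421312000 : ℕ) = 2 * 21152710656000 by norm_num]
        exact Nat.not_prime_mul (by norm_num) (by norm_num))
    · exact h
  rw [← Subgroup.map_subtype_commutator, hc, ← MonoidHom.range_eq_map, Subgroup.range_subtype]

/-- **The automorphism group is perfect.** -/
theorem perfect_Co0 : commutator Co0 = ⊤ := by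
  have hc : Subgroup.center Co0 ≤ commutator Co0 := fun z hz => by
    rcases mem_center_iff.1 hz with rfl | rfl
    · exact one_mem _
    · exact negCo0_mem_commutator
  rcases normal_cases (commutator Co0) hc with h | h
  · exfalso
    have hle : stabilizer Co0 stdA ≤ Subgroup.center Co0 :=
      stabA_perfect.ge.trans ((Subgroup.commutator_mono le_top le_top).trans h.le)
    have h2 := Subgroup.card_le_of_le hle
    rw [card_stab4 ip_stdA, card_center] at h2
    norm_num at h2
  · exact h

theorem ker_eq_bot (hM : Cfsg.HasCyclicSchurMultiplier ↥(stabilizer Co0 stdA) 1)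
    {E : Type} [Group E] [Finite E] (σ : E →* Co0) (hσ : Cfsg.IsStemExtension σ) : σ.ker = ⊥ := by
  obtain ⟨hs, hcen, hcomm⟩ := hσ
  set H := stabilizer Co0 stdA with hH
  set L0 : Subgroup E := H.comap σ with hL0
  set L : Subgroup E := ⁅L0, L0⁆ with hL
  have hL0map : L0.map σ = H := Subgroup.map_comap_eq_self_of_surjective hs H
  have hLmap : L.map σ = H := by rw [hL, Subgroup.map_commutator, hL0map, stabA_perfect]
  have hLle : L ≤ L0 := Subgroup.commutator_le.2 fun a ha b hb => by
    rw [commutatorElement_def]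
    exact mul_mem (mul_mem (mul_mem ha hb) (inv_mem ha)) (inv_mem hb)
  have hsplit : ∀ a ∈ L0, ∃ l ∈ L, l⁻¹ * a ∈ σ.ker := fun a ha => by
    obtain ⟨l, hl, he⟩ : σ a ∈ L.map σ := by rw [hLmap]; exact ha
    exact ⟨l, hl, by rw [MonoidHom.mem_ker, map_mul, map_inv, he, inv_mul_cancel]⟩
  have hLperf : ⁅L, L⁆ = L := by
    refine le_antisymm (Subgroup.commutator_mono hLle hLle) (Subgroup.commutator_le.2 fun a ha b hb => ?_)
    obtain ⟨l, hl, hla⟩ := hsplit a ha
    obtain ⟨m, hm, hmb⟩ := hsplit b hb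
    rw [← mul_inv_cancel_left l a, ← mul_inv_cancel_left m b,
      SL2Root.comm_congr (hcen hla) (hcen hmb)]
    exact Subgroup.commutator_mem_commutator hl hm
  -- the stem extension of the vector stabiliser
  let τ : L →* H := (σ.comp L.subtype).codRestrict H fun l => hLle l.2
  have hLz : ∀ z ∈ σ.ker, z ∈ L → z = 1 := by
    have hst : Cfsg.IsStemExtension τ := by
      refine ⟨fun h => ?_, fun l hl => ?_, ?_⟩
      · obtain ⟨l, hl, he⟩ : (h : Co0) ∈ L.map σ := by rw [hLmap]; exact h.2
        exact ⟨⟨l, hl⟩, Subtype.ext he⟩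
      · have : (l : E) ∈ Subgroup.center E := hcen (congrArg Subtype.val hl)
        exact Subgroup.mem_center_iff.2 fun g => Subtype.ext (Subgroup.mem_center_iff.1 this g)
      · have : commutator L = ⊤ := by
          refine Subgroup.map_injective L.subtype_injective ?_
          rw [Subgroup.map_subtype_commutator, hLperf, ← MonoidHom.range_eq_map, Subgroup.range_subtype]
        rw [this]; exact le_top
    obtain ⟨p, hp⟩ := hM.2 L τ hst
    intro z hz hzL
    have hzk : (⟨z, hzL⟩ : L) ∈ τ.ker := Subtype.ext hz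
    obtain ⟨a, ha⟩ := hp ⟨_, hzk⟩
    rw [Subsingleton.elim a 1, map_one] at ha
    exact (congrArg (fun x : τ.ker => ((x : L) : E)) ha).symm
  -- the lifted graph
  letI : MulAction E Vtx := MulAction.compHom Vtx σ
  have hval : ∀ (e : E) (x : Vtx), e • x = σ e • x := fun _ _ => rfl
  have hfix : ∀ l ∈ L, σ l • vA = vA := fun l hl => Vtx.ext (hLle hl)
  let pr : E ⧸ L → Vtx := Quotient.lift (fun e => σ e • vA) fun a b hab => by
    have h1 : a⁻¹ * b ∈ L := QuotientGroup.leftRel_apply.1 hab
    show σ a • vA = σ b • vA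
    rw [show σ b = σ a * σ (a⁻¹ * b) by rw [map_mul, map_inv, mul_inv_cancel_left], mul_smul,
      hfix _ h1]
  have hpr : ∀ e : E, pr (e : E ⧸ L) = σ e • vA := fun _ => rfl
  have hin : ∀ a : E, σ a • vA = vA → a ∈ L0 := fun a ha => congrArg Subtype.val ha
  have F : Fibred σ.ker pr := by
    refine ⟨hcen, fun g a => ?_, fun x => ?_, fun z hz x => ?_, fun z hz a h => ?_, fun a b h => ?_⟩
    · induction a using QuotientGroup.induction_on with
      | H a => rw [MulAction.Quotient.smul_coe, smul_eq_mul, hpr, hpr, map_mul, mul_smul, hval]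
    · obtain ⟨g, hg⟩ := transitive4 ip_stdA x.2
      obtain ⟨e, rfl⟩ := hs g
      exact ⟨(e : E ⧸ L), Vtx.ext hg⟩
    · rw [hval, MonoidHom.mem_ker.1 hz, one_smul]
    · induction a using QuotientGroup.induction_on with
      | H a =>
        rw [MulAction.Quotient.smul_coe, smul_eq_mul, eq_comm, QuotientGroup.eq] at h
        refine hLz z hz ?_
        have : a⁻¹ * (z * a) = z := by
          rw [← Subgroup.mem_center_iff.1 (hcen hz) a, inv_mul_cancel_left]
        rwa [this] at h
    · induction a using QuotientGroup.induction_on with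
      | H a =>
      induction b using QuotientGroup.induction_on with
      | H b =>
        rw [hpr, hpr] at h
        have h0 : a⁻¹ * b ∈ L0 := hin _ (by rw [map_mul, map_inv, mul_smul, ← h, inv_smul_smul])
        obtain ⟨l, hl, hk⟩ := hsplit _ h0
        refine ⟨l⁻¹ * (a⁻¹ * b), hk, ?_⟩
        have hb : l⁻¹ * (a⁻¹ * b) * a * l = b := by
          have hc := Subgroup.mem_center_iff.1 (hcen hk) (a * l)
          calc l⁻¹ * (a⁻¹ * b) * a * l = l⁻¹ * (a⁻¹ * b) * (a * l) := by group
            _ = a * l * (l⁻¹ * (a⁻¹ * b)) := hc.symm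
            _ = b := by group
        rw [MulAction.Quotient.smul_coe, smul_eq_mul, QuotientGroup.eq]
        have e1 : b⁻¹ * (l⁻¹ * (a⁻¹ * b) * a) = l⁻¹ := eq_inv_of_mul_eq_one_left (by
          rw [mul_assoc, hb, inv_mul_cancel])
        rw [e1]; exact inv_mem hl
  obtain ⟨e₀, he₀⟩ : ∃ e₀ : E, σ e₀ • vA = wV := by
    obtain ⟨g, hg⟩ := transitive4 ip_stdA wV.2
    obtain ⟨e, rfl⟩ := hs g
    exact ⟨e, Vtx.ext hg⟩
  let q₀ : E ⧸ L := (e₀ : E ⧸ L)
  let p₀ : E ⧸ L := ((1 : E) : E ⧸ L)
  have hp0 : pr p₀ = vA := by rw [hpr, map_one, one_smul]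
  have hq0 : pr q₀ = wV := he₀
  -- the lifted edge is fixed by the part of `L` over the edge stabiliser
  set L1 : Subgroup E := L ⊓ edgeStab.comap σ with hL1
  have hL1map : L1.map σ = edgeStab := by
    refine le_antisymm (Subgroup.map_le_iff_le_comap.2 inf_le_right) fun g hg => ?_
    obtain ⟨l, hl, rfl⟩ : g ∈ L.map σ := by rw [hLmap]; exact hg.1
    exact ⟨l, ⟨hl, hg⟩, rfl⟩
  have hL1fix : ∀ h ∈ L1, h • q₀ = q₀ := by
    have hle : ⁅L1, L1⁆ ≤ stabilizer E q₀ := Subgroup.commutator_le.2 fun a ha b hb => by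
      have hmv : ∀ h ∈ L1, ∃ u ∈ σ.ker, h • q₀ = u • q₀ := fun h hh =>
        F.trans q₀ (h • q₀) (by
          rw [F.equivariant, hq0, hval]
          exact (Vtx.ext (show σ h • wV.1 = wV.1 from hh.2.2)).symm)
      obtain ⟨u, hu, hau⟩ := hmv a ha
      obtain ⟨v, hv, hbv⟩ := hmv b hb
      have e1 : (a * b) • q₀ = (b * a) • q₀ := by
        rw [mul_smul, mul_smul, hbv, hau, F.swap hv a, hau, F.swap hu b, hbv, ← mul_smul, ← mul_smul,
          Subgroup.mem_center_iff.1 (hcen hu) v]
      have e2 : ⁅a, b⁆ • (b * a) • q₀ = (b * a) • q₀ := by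
        rw [← mul_smul, show ⁅a, b⁆ * (b * a) = a * b by rw [commutatorElement_def]; group, e1]
      rw [mul_smul b a, hau, F.swap hu b, hbv, ← mul_smul u v] at e2
      rw [MulAction.mem_stabilizer_iff]
      refine smul_left_cancel (u * v) ?_
      rw [← F.swap (mul_mem hu hv), e2]
    intro h hh
    obtain ⟨c, hc, he⟩ : σ h ∈ ⁅L1, L1⁆.map σ := by
      rw [Subgroup.map_commutator, hL1map, show ⁅edgeStab, edgeStab⁆ = edgeStab from edgeDer_eq]
      exact hh.2
    have hcL : c ∈ L := (Subgroup.commutator_le.2 fun a ha b hb => by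
      rw [commutatorElement_def]
      exact mul_mem (mul_mem (mul_mem ha.1 hb.1) (inv_mem ha.1)) (inv_mem hb.1)) hc
    have : h = c := (inv_mul_eq_one.1 (hLz (c⁻¹ * h)
      (by rw [MonoidHom.mem_ker, map_mul, map_inv, he, inv_mul_cancel]) (mul_mem (inv_mem hcL) hh.1))).symm
    rw [this]
    exact hle hc
  have hR : Lifting (E := E) pr Adj fun p q => ∃ g : E, g • p₀ = p ∧ g • q₀ = q := by
    refine ⟨?_, fun p y h => ?_, ?_, ?_⟩
    · rintro _ _ ⟨g, rfl, rfl⟩
      rw [F.equivariant, F.equivariant, hval, hval, adj_smul_iff, hp0, hq0]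
      exact adj_wV
    · obtain ⟨g, g1, g2⟩ := edge_orbit adj_wV h
      obtain ⟨e, rfl⟩ := hs g
      obtain ⟨e', e1, e2⟩ := F.exists_move (a₀ := p₀) (a := p) (g := e) (by rw [hp0, hval]; exact g1)
      exact ⟨e' • q₀, by rw [F.equivariant, hq0, e2, hval]; exact g2, e', e1, rfl⟩
    · rintro p q q' ⟨g, g1, rfl⟩ ⟨g', g1', rfl⟩ he
      have hh : g⁻¹ * g' ∈ L1 := by
        refine ⟨?_, ?_⟩
        · have : (g⁻¹ * g') • p₀ = p₀ := by rw [mul_smul, g1', ← g1, inv_smul_smul]
          rw [MulAction.Quotient.smul_coe, smul_eq_mul, mul_one, QuotientGroup.eq, mul_one] at this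
          exact (Subgroup.inv_mem_iff L).1 this
        · have h1 : σ (g⁻¹ * g') • vA = vA := by
            have := congrArg pr (show (g⁻¹ * g') • p₀ = p₀ by rw [mul_smul, g1', ← g1, inv_smul_smul])
            rwa [F.equivariant, hp0, hval] at this
          have h2 : σ (g⁻¹ * g') • wV = wV := by
            have := congrArg (fun x : Vtx => g⁻¹ • x) he
            simp only [F.equivariant, hq0, inv_smul_smul] at this
            rw [← hval, mul_smul, ← this]
          exact ⟨congrArg Subtype.val h1, congrArg Subtype.val h2⟩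
      calc g • q₀ = g • (g⁻¹ * g') • q₀ := by rw [hL1fix _ hh]
        _ = g' • q₀ := by rw [mul_smul, smul_inv_smul]
    · rintro e p q ⟨g, rfl, rfl⟩
      exact ⟨e * g, mul_smul _ _ _, mul_smul _ _ _⟩
  obtain ⟨R', hR', hsym', htri'⟩ := exists_closed F hR (fun _ _ h => h.symm)
    (fun x y x' y' h h' => by
      obtain ⟨g, g1, g2⟩ := edge_orbit h h'
      obtain ⟨e, rfl⟩ := hs g
      exact ⟨e, g1, g2⟩)
    (fun x y w x' y' w' h1 h2 h3 k1 k2 k3 => by
      obtain ⟨g, g1, g2, g3⟩ := triangle_orbit h1 h2 h3 k1 k2 k3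
      obtain ⟨e, rfl⟩ := hs g
      exact ⟨e, g1, g2, g3⟩)
    adj_wV adj_y0.2 adj_y0.1.symm
  refine (Subgroup.eq_bot_iff_forall _).2 fun z hz => ?_
  exact eq_one_of_mem_commutator F hR' (fun _ _ h => h.symm) hsym' htri' layered
    (fun g x y h => (adj_smul_iff (σ g) x y).2 h) hz (hcomm hz)

/-- The multiplier of the automorphism group is trivial. -/
theorem multiplier_Co0 (hM : Cfsg.HasCyclicSchurMultiplier ↥(stabilizer Co0 stdA) 1) :
    Cfsg.HasCyclicSchurMultiplier ↥Co0 1 := by
  refine ⟨⟨Co0, inferInstance, inferInstance, MonoidHom.id Co0,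
    ⟨Function.surjective_id, ?_, ?_⟩, ?_⟩, fun Γ _ _ σ hσ => ⟨1, fun z => ?_⟩⟩
  · rw [MonoidHom.ker_id]; exact bot_le
  · rw [MonoidHom.ker_id]; exact bot_le
  · rw [MonoidHom.ker_id]
    haveI : Unique (Multiplicative (ZMod 1)) := Unique.mk' _
    exact ⟨MulEquiv.ofUnique⟩
  · have := ker_eq_bot hM σ hσ
    refine ⟨1, Subtype.ext ?_⟩
    have hz : z.1 = 1 := (Subgroup.eq_bot_iff_forall _).1 this z.1 z.2
    simp [hz]

/-- **The multiplier of the simple quotient has order 2.** -/
theorem multiplier_Co1 (hM : Cfsg.HasCyclicSchurMultiplier ↥(stabilizer Co0 stdA) 1) :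
    Cfsg.HasCyclicSchurMultiplier Cfsg.Spor.Co1 2 := by
  have hk : (QuotientGroup.mk' (Subgroup.center Co0)).ker = Subgroup.center Co0 := QuotientGroup.ker_mk' _
  haveI : Fact (Nat.Prime 2) := ⟨Nat.prime_two⟩
  refine Schur.hasSchurMultiplier_of_perfect perfect_Co0 (multiplier_Co0 hM)
    (QuotientGroup.mk' (Subgroup.center Co0)) (QuotientGroup.mk'_surjective _) hk.le
    (mulEquivOfPrimeCardEq (p := 2) (by simp [Nat.card_zmod]) (by rw [hk]; exact card_center))

theorem leechU_eq : Cfsg.Spor.leechU = stdA := by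
  refine Subtype.ext (funext fun p => ?_)
  rw [stdA_apply]
  show Cfsg.Spor.vecU p = _
  revert p; decide

/-- **The multiplier of the simple quotient has order 2**, from that of the named vector stabiliser. -/
theorem multiplier_Co1_of_Co2 (h : Cfsg.HasCyclicSchurMultiplier ↥Cfsg.Spor.Co2 1) :
    Cfsg.HasCyclicSchurMultiplier Cfsg.Spor.Co1 2 := by
  refine multiplier_Co1 ?_
  have := Schur.hasCyclicSchurMultiplier_of_mulEquiv sporCo2Equiv.symm h
  rwa [leechU_eq] at this

end Cfsg.Agent.Co1Mult
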